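import Groth.Agent.H10Coh.QCohOps
import Groth.Agent.H11Tilde.Local
import Groth.Prelude.Def_FlatMod2
import Groth.Prelude.Def_ParaF

/-!
# Restriction of locally free modules to an open subscheme with enough functions
-/

set_option autoImplicit false
set_option linter.style.haveILetI false

noncomputable section

universe u

open CategoryTheory CategoryTheory.Limits AlgebraicGeometry Opposite TopologicalSpace

namespace Groth.Agent.H23Para

variable {X : Scheme.{u}}

/-- Restriction of sections of `M` from every open `V` to `V ⊓ U` is bijective. -/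
def SecBij (U : X.Opens) (M : X.Modules) : Prop :=
  ∀ V : X.Opens, Function.Bijective (M.presheaf.map (homOfLE (inf_le_left : V ⊓ U ≤ V)).op)

theorem bijective_map_congr (M : X.Modules) {A A' B B' : X.Opens} (hA : A = A') (hB : B = B') (h : A ≤ B)
    (h' : A' ≤ B') :
    Function.Bijective (M.presheaf.map (homOfLE h).op) ↔ Function.Bijective (M.presheaf.map (homOfLE h').op) := by
  subst hA hB
  rfl

/-- Bijectivity of restrictions is local on the scheme. -/
theorem secBij_of_cover {U : X.Opens} {M : X.Modules} {I : Type*} (W : I → X.Opens) (hW : ⨆ i, W i = ⊤)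
    (h : ∀ i (V : X.Opens), V ≤ W i → Function.Bijective (M.presheaf.map (homOfLE (inf_le_left : V ⊓ U ≤ V)).op)) :
    SecBij U M := by
  have res : ∀ {A B C : X.Opens} (hBA : B ≤ A) (hCB : C ≤ B) (x : Γ(M, A)),
      M.presheaf.map (homOfLE hCB).op (M.presheaf.map (homOfLE hBA).op x) =
        M.presheaf.map (homOfLE (hCB.trans hBA)).op x := fun hBA hCB x => by
    rw [← ConcreteCategory.comp_apply, ← Functor.map_comp]; rfl
  intro V
  let F : TopCat.Sheaf Ab.{u} X := ⟨M.presheaf, M.isSheaf⟩
  have hV : V ≤ ⨆ i, V ⊓ W i := by rw [← inf_iSup_eq, hW, inf_top_eq]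
  constructor
  · intro s t hst
    apply TopCat.Sheaf.eq_of_locally_eq' F (fun i => V ⊓ W i) V (fun i => homOfLE inf_le_left) hV
    intro i
    apply (h i (V ⊓ W i) inf_le_right).1
    have hst' := congrArg (M.presheaf.map (homOfLE (inf_le_inf_right U inf_le_left : V ⊓ W i ⊓ U ≤ V ⊓ U)).op) hst
    rw [res, res] at hst'
    erw [res, res]
    exact hst'
  · intro t
    choose s hs using fun i => (h i (V ⊓ W i) inf_le_right).2
      (M.presheaf.map (homOfLE (inf_le_inf_right U inf_le_left : V ⊓ W i ⊓ U ≤ V ⊓ U)).op t)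
    have hcompat : TopCat.Presheaf.IsCompatible F.1 (fun i => V ⊓ W i) s := by
      intro i j
      apply (h i ((V ⊓ W i) ⊓ (V ⊓ W j)) (inf_le_left.trans inf_le_right)).1
      have e1 := congrArg (M.presheaf.map (homOfLE (inf_le_inf_right U inf_le_left :
        (V ⊓ W i) ⊓ (V ⊓ W j) ⊓ U ≤ V ⊓ W i ⊓ U)).op) (hs i)
      have e2 := congrArg (M.presheaf.map (homOfLE (inf_le_inf_right U inf_le_right :
        (V ⊓ W i) ⊓ (V ⊓ W j) ⊓ U ≤ V ⊓ W j ⊓ U)).op) (hs j)
      rw [res, res] at e1 e2
      erw [res, res]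
      exact e1.trans e2.symm
    obtain ⟨v, hv, -⟩ := TopCat.Sheaf.existsUnique_gluing' F (fun i => V ⊓ W i) V (fun i => homOfLE inf_le_left) hV s hcompat
    refine ⟨v, ?_⟩
    apply TopCat.Sheaf.eq_of_locally_eq' F (fun i => V ⊓ W i ⊓ U) (V ⊓ U)
      (fun i => homOfLE (inf_le_inf_right U inf_le_left)) (by rw [← iSup_inf_eq]; exact inf_le_inf_right U hV)
    intro i
    erw [res]
    refine Eq.trans ?_ (hs i)
    rw [show s i = M.presheaf.map (homOfLE inf_le_left).op v from (hv i).symm, res]

theorem image_inf_preimage {W : Scheme.{u}} (f : W ⟶ X) [IsOpenImmersion f] (V : W.Opens) (U : X.Opens) :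
    f ''ᵁ (V ⊓ f ⁻¹ᵁ U) = f ''ᵁ V ⊓ U := by
  ext x
  constructor
  · rintro ⟨y, ⟨hy, hy'⟩, rfl⟩; exact ⟨⟨y, hy, rfl⟩, hy'⟩
  · rintro ⟨⟨y, hy, rfl⟩, hy'⟩; exact ⟨y, ⟨hy, hy'⟩, rfl⟩

/-- Restricting along an open immersion preserves bijectivity of restrictions. -/
theorem SecBij.restrict {W : Scheme.{u}} (f : W ⟶ X) [IsOpenImmersion f] {U : X.Opens} {M : X.Modules}
    (h : SecBij U M) : SecBij (f ⁻¹ᵁ U) (M.restrict f) := fun V =>
  (bijective_map_congr M (image_inf_preimage f V U) rfl
    (Scheme.Hom.image_mono _ inf_le_left) inf_le_left).mpr (h (f ''ᵁ V))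

/-- Bijectivity below the image of an open immersion can be checked after restricting. -/
theorem bijective_of_restrict {W : Scheme.{u}} (f : W ⟶ X) [IsOpenImmersion f] {U : X.Opens} {M : X.Modules}
    (h : SecBij (f ⁻¹ᵁ U) (M.restrict f)) (V : X.Opens) (hV : V ≤ f.opensRange) :
    Function.Bijective (M.presheaf.map (homOfLE (inf_le_left : V ⊓ U ≤ V)).op) :=
  (bijective_map_congr M ((image_inf_preimage f _ U).trans (by
    rw [Scheme.Hom.image_preimage_eq_opensRange_inf, inf_eq_right.mpr hV]))
    (by rw [Scheme.Hom.image_preimage_eq_opensRange_inf, inf_eq_right.mpr hV])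
    (Scheme.Hom.image_mono _ inf_le_left) inf_le_left).mp (h (f ⁻¹ᵁ V))

/-- The unit of restriction along `j` at `M` is an isomorphism iff restrictions are bijective. -/
theorem isIso_unit_iff {U : Scheme.{u}} (j : U ⟶ X) [IsOpenImmersion j] (M : X.Modules) :
    IsIso ((Scheme.Modules.restrictAdjunction j).unit.app M) ↔ SecBij j.opensRange M := by
  rw [Scheme.Modules.Hom.isIso_iff_isIso_app]
  refine forall_congr' fun V => ?_
  rw [ConcreteCategory.isIso_iff_bijective, Scheme.Modules.restrictAdjunction_unit_app_app]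
  exact bijective_map_congr M (by rw [Scheme.Hom.image_preimage_eq_opensRange_inf, inf_comm]) rfl _ _

theorem isIso_unit_ι_iff (U : X.Opens) (M : X.Modules) :
    IsIso ((Scheme.Modules.restrictAdjunction U.ι).unit.app M) ↔ SecBij U M := by
  rw [isIso_unit_iff, Scheme.Opens.opensRange_ι]

theorem SecBij.of_iso {U : X.Opens} {M N : X.Modules} (e : M ≅ N) (h : SecBij U M) : SecBij U N := by
  rw [← isIso_unit_ι_iff] at h ⊢
  exact (NatTrans.isIso_app_iff_of_iso (Scheme.Modules.restrictAdjunction U.ι).unit e).mp h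

/-- Bijectivity of restrictions passes to finite free modules. -/
theorem SecBij.freeMod {U : X.Opens} (h : SecBij U (Coh.structureModule X)) (n : ℕ) :
    SecBij U (FlatMod.freeMod X n) := by
  refine SecBij.of_iso (biproduct.isoCoproduct fun _ : Fin n => Coh.structureModule X) ?_
  rw [← isIso_unit_ι_iff] at h ⊢
  let G := Scheme.Modules.pushforward U.ι
  let F := Scheme.Modules.restrictFunctor U.ι
  let η := (Scheme.Modules.restrictAdjunction U.ι).unit
  haveI : G.Additive := (Scheme.Modules.restrictAdjunction U.ι).right_adjoint_additive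
  haveI : IsIso (η.app (Coh.structureModule X)) := h
  let f := fun _ : Fin n => Coh.structureModule X
  refine ⟨∑ i, (F ⋙ G).map (biproduct.π f i) ≫ inv (η.app (Coh.structureModule X)) ≫ biproduct.ι f i, ?_, ?_⟩
  · rw [Preadditive.comp_sum]
    refine Eq.trans (Finset.sum_congr rfl fun i _ => ?_) biproduct.total
    rw [← Category.assoc, ← η.naturality]
    simp [f, η]
  · rw [Preadditive.sum_comp]
    refine Eq.trans (Finset.sum_congr rfl fun i _ => ?_)
      (show ∑ i, (F ⋙ G).map (biproduct.π f i ≫ biproduct.ι f i) = 𝟙 _ from ?_)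
    · rw [Category.assoc, Category.assoc]
      have hn : biproduct.ι f i ≫ η.app (⨁ f) = η.app (f i) ≫ (F ⋙ G).map (biproduct.ι f i) :=
        η.naturality (biproduct.ι f i)
      rw [hn, IsIso.inv_hom_id_assoc, ← Functor.map_comp]
    · rw [← Functor.map_sum, biproduct.total, CategoryTheory.Functor.map_id]

/-- Finite locally free modules inherit bijectivity of restrictions from the structure sheaf. -/
theorem secBij_of_isFinLocFree {U : X.Opens} (h : SecBij U (Coh.structureModule X)) {M : X.Modules}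
    (hM : FlatMod.IsFinLocFree M) : SecBij U M := by
  choose W n hxW e using hM
  refine secBij_of_cover W (eq_top_iff.mpr fun x _ => Opens.mem_iSup.mpr ⟨x, hxW x⟩) fun x V hV =>
    bijective_of_restrict (W x).ι ?_ V (by rwa [Scheme.Opens.opensRange_ι])
  exact SecBij.of_iso (e x).some.symm
    (SecBij.freeMod (SecBij.of_iso (Scheme.Modules.restrictUnitIso (W x).ι) (h.restrict (W x).ι)) _)

theorem isFinLocFree_of_isInvertible {L : X.Modules} (hL : PicF.IsInvertible L) : FlatMod.IsFinLocFree L := by
  intro x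
  obtain ⟨U, hxU, ⟨e⟩⟩ := hL x
  exact ⟨U, 1, hxU, ⟨e ≪≫ (coproductUniqueIso fun _ : Fin 1 => Coh.structureModule (U : Scheme.{u})).symm⟩⟩

theorem secBij_of_isInvertible {U : X.Opens} (h : SecBij U (Coh.structureModule X)) {M : X.Modules}
    (hM : PicF.IsInvertible M) : SecBij U M :=
  secBij_of_isFinLocFree h (isFinLocFree_of_isInvertible hM)

/-- Restriction is fully faithful towards modules whose unit is an isomorphism. -/
theorem bijective_restrict_map {U : Scheme.{u}} (j : U ⟶ X) [IsOpenImmersion j] (L : X.Modules) {L' : X.Modules}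
    (h : SecBij j.opensRange L') :
    Function.Bijective (fun φ : L ⟶ L' => (Scheme.Modules.restrictFunctor j).map φ) := by
  haveI := (isIso_unit_iff j L').mpr h
  let adj := Scheme.Modules.restrictAdjunction j
  have : (fun φ : L ⟶ L' => (Scheme.Modules.restrictFunctor j).map φ) =
      (adj.homEquiv L _).symm ∘ (fun φ => φ ≫ adj.unit.app L') := by
    funext φ
    rw [Function.comp_apply, Equiv.eq_symm_apply, Adjunction.homEquiv_unit]
    exact (adj.unit.naturality φ).symm
  rw [this]
  exact (adj.homEquiv L _).symm.bijective.comp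
    ⟨fun a b hab => (cancel_mono (adj.unit.app L')).mp hab, fun ψ => ⟨ψ ≫ inv (adj.unit.app L'), by simp [adj]⟩⟩

/-- An extension with bijective restrictions is the direct image. -/
theorem nonempty_iso_pushforward {U : Scheme.{u}} (j : U ⟶ X) [IsOpenImmersion j] {L : X.Modules} {L₀ : U.Modules}
    (h : SecBij j.opensRange L) (e : L.restrict j ≅ L₀) :
    Nonempty (L ≅ (Scheme.Modules.pushforward j).obj L₀) :=
  haveI := (isIso_unit_iff j L).mpr h
  ⟨asIso ((Scheme.Modules.restrictAdjunction j).unit.app L) ≪≫ (Scheme.Modules.pushforward j).mapIso e⟩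

/-- The direct image restricts back. -/
def restrictPushIso {U : Scheme.{u}} (j : U ⟶ X) [IsOpenImmersion j] (L₀ : U.Modules) :
    ((Scheme.Modules.pushforward j).obj L₀).restrict j ≅ L₀ :=
  (Scheme.Modules.restrictFunctorAdjCounitIso j).app L₀

/-- Fully faithfulness at the structure sheaf gives bijectivity of global functions. -/
theorem bijective_global {U : Scheme.{u}} (j : U ⟶ X) [IsOpenImmersion j]
    (h : Function.Bijective (fun φ : Coh.structureModule X ⟶ Coh.structureModule X =>
      (Scheme.Modules.restrictFunctor j).map φ)) :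
    Function.Bijective ((Coh.structureModule X).presheaf.map (homOfLE (le_top : j.opensRange ≤ ⊤)).op) := by
  let O := Coh.structureModule X
  let adj := Scheme.Modules.restrictAdjunction j
  let η := adj.unit.app O
  have hcomp : Function.Bijective (fun φ : O ⟶ O => φ ≫ η) := by
    have : (fun φ : O ⟶ O => φ ≫ η) = (adj.homEquiv O _) ∘
        (fun φ : O ⟶ O => (Scheme.Modules.restrictFunctor j).map φ) := by
      funext φ
      rw [Function.comp_apply, Adjunction.homEquiv_unit]
      exact adj.unit.naturality φ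
    rw [this]
    exact (adj.homEquiv O _).bijective.comp h
  have hev : ∀ N : X.Modules, Function.Bijective (fun ψ : O ⟶ N => ψ.app ⊤ (1 : Γ(X, ⊤))) := by
    intro N
    let ev : N.sections → Γ(N, ⊤) := fun s => s.val (op ⊤)
    have he : Function.Bijective ev := by
      refine ⟨fun s t hst => Subtype.ext (funext fun V => ?_), fun x =>
        ⟨⟨fun V => N.presheaf.map (homOfLE le_top).op x, fun {V V'} g => ?_⟩, ?_⟩⟩
      · rw [← s.2 (homOfLE (le_top : V.unop ≤ ⊤)).op, ← t.2 (homOfLE (le_top : V.unop ≤ ⊤)).op]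
        exact congrArg _ hst
      · show N.presheaf.map g (N.presheaf.map _ x) = _
        rw [← ConcreteCategory.comp_apply, ← Functor.map_comp]
        rfl
      · show N.presheaf.map _ x = x
        rw [show (homOfLE (le_top : (⊤ : X.Opens) ≤ ⊤)).op = 𝟙 _ from rfl, CategoryTheory.Functor.map_id]
        rfl
    exact he.comp N.unitHomEquiv.bijective
  have hη : Function.Bijective (η.app ⊤) := by
    refine ⟨fun a b hab => ?_, fun y => ?_⟩
    · obtain ⟨φ, rfl⟩ := (hev O).2 a
      obtain ⟨ψ, rfl⟩ := (hev O).2 b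
      exact congrArg (fun φ : O ⟶ O => φ.app ⊤ (1 : Γ(X, ⊤))) (hcomp.1 ((hev _).1 hab))
    · obtain ⟨χ, rfl⟩ := (hev _).2 y
      obtain ⟨φ, rfl⟩ := hcomp.2 χ
      exact ⟨_, rfl⟩
  rw [show η.app ⊤ = _ from Scheme.Modules.restrictAdjunction_unit_app_app j O ⊤] at hη
  exact (bijective_map_congr O (by rw [Scheme.Hom.image_preimage_eq_opensRange_inf, inf_top_eq]) rfl _ _).mp hη

theorem opensRange_homOfLE {U V : X.Opens} (h : U ≤ V) : (X.homOfLE h).opensRange = V.ι ⁻¹ᵁ U := by
  apply Scheme.Hom.image_injective V.ι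
  show V.ι ''ᵁ (X.homOfLE h).opensRange = V.ι ''ᵁ (V.ι ⁻¹ᵁ U)
  rw [← Scheme.Hom.opensRange_comp]
  simp only [Scheme.homOfLE_ι]
  rw [Scheme.Opens.opensRange_ι,
    Scheme.Hom.image_preimage_eq_opensRange_inf, Scheme.Opens.opensRange_ι, inf_eq_right.mpr h]

end Groth.Agent.H23Para
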