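import Groth.Agent.H23Para.Pair

/-!
# Parafactorial local rings through the punctured spectrum
-/

set_option autoImplicit false
set_option linter.style.haveILetI false

noncomputable section

universe u

open CategoryTheory CategoryTheory.Limits AlgebraicGeometry Opposite TopologicalSpace

namespace Groth.Agent.H23Para

variable {A : Type u} [CommRing A] [IsLocalRing A]

theorem eq_top_of_closedPoint_mem {V : (Spec (CommRingCat.of A)).Opens} (h : IsLocalRing.closedPoint A ∈ V) :
    V = ⊤ := IsLocalRing.closedPoint_mem_iff V |>.mp h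

theorem le_punctured_of_closedPoint_notMem {V : (Spec (CommRingCat.of A)).Opens}
    (h : IsLocalRing.closedPoint A ∉ V) : V ≤ FEt.puncturedSpec A := fun x hx e => h ((e : x = _) ▸ hx)

/-- Invertible modules on a local scheme are trivial. -/
theorem nonempty_iso_structureModule {L : (Spec (CommRingCat.of A)).Modules} (hL : PicF.IsInvertible L)
    {Z : Scheme.{u}} (f : Z ⟶ Spec (CommRingCat.of A)) [IsOpenImmersion f] :
    Nonempty (L.restrict f ≅ Coh.structureModule Z) := by
  obtain ⟨W, hW, ⟨e⟩⟩ := hL (IsLocalRing.closedPoint A)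
  have hWt : W = ⊤ := eq_top_of_closedPoint_mem hW
  let k : Z ⟶ (W : Scheme.{u}) := IsOpenImmersion.lift W.ι f (by
    rw [Scheme.Opens.range_ι, hWt]; exact Set.subset_univ _)
  have hk : k ≫ W.ι = f := IsOpenImmersion.lift_fac _ _ _
  haveI : IsOpenImmersion k := by
    have : IsOpenImmersion (k ≫ W.ι) := by rw [hk]; infer_instance
    exact IsOpenImmersion.of_comp k W.ι
  exact ⟨(Scheme.Modules.restrictFunctorCongr hk.symm).app L ≪≫ (Scheme.Modules.restrictFunctorComp k W.ι).app L ≪≫
    (Scheme.Modules.restrictFunctor k).mapIso e ≪≫ Scheme.Modules.restrictUnitIso k⟩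

/-- A local ring is parafactorial iff functions extend and the punctured spectrum has trivial Picard group. -/
theorem isParafactorialLocalRing_iff : ParaF.IsParafactorialLocalRing A ↔
    (Function.Bijective ((Spec (CommRingCat.of A)).presheaf.map
        (homOfLE (le_top : FEt.puncturedSpec A ≤ ⊤)).op) ∧
      ParaF.PicTrivial (FEt.puncturedSpec A : Scheme.{u})) := by
  let X := Spec (CommRingCat.of A)
  let U : X.Opens := FEt.puncturedSpec A
  unfold ParaF.IsParafactorialLocalRing
  refine pair_iff.trans ?_
  show FunBij U ∧ ExtProp U ↔ _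
  constructor
  · rintro ⟨hf, he⟩
    refine ⟨(bijective_map_congr (Coh.structureModule X) (top_inf_eq U) rfl inf_le_left le_top).mp (hf ⊤), ?_⟩
    intro L hL
    obtain ⟨e⟩ := nonempty_iso_structureModule (he (𝟙 X) U.ι (by rw [Scheme.Opens.opensRange_ι]; rfl) L hL) U.ι
    exact ⟨(restrictPushIso U.ι L).symm ≪≫ e⟩
  · rintro ⟨hb, hp⟩
    have hf : FunBij U := by
      intro V
      by_cases hc : IsLocalRing.closedPoint A ∈ V
      · obtain rfl := eq_top_of_closedPoint_mem hc
        exact (bijective_map_congr (Coh.structureModule X) (top_inf_eq U) rfl inf_le_left le_top).mpr hb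
      · refine (bijective_map_congr (Coh.structureModule X) (inf_eq_left.mpr (le_punctured_of_closedPoint_notMem hc))
          rfl inf_le_left le_rfl).mpr ?_
        rw [show (homOfLE (le_refl V)).op = 𝟙 _ from rfl, CategoryTheory.Functor.map_id]
        exact Function.bijective_id
    refine ⟨hf, extProp_of_opens fun V L hL => ?_⟩
    have hr : (X.homOfLE (inf_le_left : V ⊓ U ≤ V)).opensRange = V.ι ⁻¹ᵁ U := by
      rw [opensRange_homOfLE, Scheme.Hom.preimage_inf, show V.ι ⁻¹ᵁ V = ⊤ by ext ⟨x, hx⟩; exact iff_of_true hx trivial,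
        top_inf_eq]
    by_cases hc : IsLocalRing.closedPoint A ∈ V
    · have hU : U ≤ V := by rw [eq_top_of_closedPoint_mem hc]; exact le_top
      let a := X.isoOfEq (inf_eq_right.mpr hU)
      obtain ⟨e⟩ := hp (L.restrict a.inv) (isInvertible_restrict a.inv hL)
      let e' : L ≅ Coh.structureModule _ :=
        (Scheme.Modules.restrictFunctorId.app L).symm ≪≫
          (Scheme.Modules.restrictFunctorCongr a.hom_inv_id.symm).app L ≪≫
          (Scheme.Modules.restrictFunctorComp a.hom a.inv).app L ≪≫
          (Scheme.Modules.restrictFunctor a.hom).mapIso e ≪≫ Scheme.Modules.restrictUnitIso a.hom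
      obtain ⟨e''⟩ := nonempty_iso_pushforward (X.homOfLE (inf_le_left : V ⊓ U ≤ V))
        (L := Coh.structureModule (V : Scheme.{u})) (by rw [hr]; exact hf.restrict V.ι)
        (Scheme.Modules.restrictUnitIso _ ≪≫ e'.symm)
      exact Groth.Agent.H11Tilde.isInvertible_of_iso e'' isInvertible_structureModule
    · refine isInvertible_pushforward_of_surjective _ ?_ hL
      rw [hr]
      ext ⟨x, hx⟩
      exact iff_of_true (le_punctured_of_closedPoint_notMem hc hx) trivial

end Groth.Agent.H23Para
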