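import Groth.Agent.H23Para.DepthFun
import Groth.Agent.H29Ref.DenseExt
import Groth.Agent.H1CAlg.Serre

/-!
# Factorial local rings are parafactorial
-/

set_option autoImplicit false
set_option linter.style.haveILetI false

noncomputable section

universe u

open CategoryTheory CategoryTheory.Limits AlgebraicGeometry Opposite TopologicalSpace

namespace Groth.Agent.H23Para

variable {A : Type u} [CommRing A] [IsLocalRing A] [IsNoetherianRing A]

theorem ufm_stalk_closedPoint [IsDomain A] [UniqueFactorizationMonoid A] :
    UniqueFactorizationMonoid ((Spec (CommRingCat.of A)).presheaf.stalk (IsLocalRing.closedPoint A)) := by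
  let e : A ≃+* (Spec (CommRingCat.of A)).presheaf.stalk (IsLocalRing.closedPoint A) :=
    (IsLocalization.atUnits A (IsLocalRing.closedPoint A).asIdeal.primeCompl
      (S := (Spec.structureSheaf A).presheaf.stalk (IsLocalRing.closedPoint A)) (fun a ha => by
        simpa [IsLocalRing.closedPoint, IsLocalRing.mem_maximalIdeal, IsUnit.mem_submonoid_iff] using ha)).toRingEquiv
  exact e.toMulEquiv.uniqueFactorizationMonoid ‹_›

/-- Invertible modules on the punctured spectrum of a factorial local ring are trivial. -/
theorem picTrivial_of_ufd [IsDomain A] [UniqueFactorizationMonoid A] :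
    ParaF.PicTrivial (FEt.puncturedSpec A : Scheme.{u}) := by
  intro L hL
  haveI : IsNoetherianRing (CommRingCat.of A) := ‹_›
  obtain ⟨L', hL', ⟨e⟩⟩ := Groth.Agent.H29Ref.exists_invertible_extension (FEt.puncturedSpec A) L hL
    (fun x hx => by
      have : x = IsLocalRing.closedPoint A := not_not.mp hx
      rw [this]
      exact ufm_stalk_closedPoint)
  obtain ⟨f⟩ := nonempty_iso_structureModule hL' (FEt.puncturedSpec A).ι
  exact ⟨e.symm ≪≫ f⟩

/-- Factorial local rings of dimension at least two are parafactorial. -/
theorem isParafactorial_of_ufd [IsDomain A] [UniqueFactorizationMonoid A]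
    (hdim : (2 : WithBot ℕ∞) ≤ ringKrullDim A) : ParaF.IsParafactorialLocalRing A :=
  isParafactorialLocalRing_iff.mpr ⟨bijective_punctured_iff.mpr
    (Groth.Agent.H1CAlg.depth_ge_two_of_isIntegrallyClosed hdim), picTrivial_of_ufd⟩

end Groth.Agent.H23Para
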