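import Groth.Agent.H8Props.RelFP.PullSections
import Groth.Agent.H8Props.FinLocFree.Sheaf
import Groth.Agent.H16Derived.KFlat.FinLocFree
import Groth.Agent.LeadDev.Sub
import Groth.Agent.H17.PullSect
import Mathlib.RingTheory.Finiteness.Descent
import Groth.Agent.S0585

/-!
# Descent of finite local freeness and of isomorphisms along fpqc morphisms
-/

set_option autoImplicit false
set_option linter.style.haveILetI false

noncomputable section

universe u

open CategoryTheory CategoryTheory.Limits AlgebraicGeometry Opposite TopologicalSpace TensorProduct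

namespace Groth.Agent.H23Para

variable {X X' : Scheme.{u}} (f : X' ⟶ X) [QuasiCompact f] [Flat f] [Surjective f]

/-- An affine scheme over an affine open with faithfully flat ring map. -/
theorem exists_affine_faithfullyFlat {V : X.Opens} (hV : IsAffineOpen V) :
    ∃ (T : Scheme.{u}) (_ : IsAffine T) (v : T ⟶ X') (hle : (⊤ : T.Opens) ≤ (v ≫ f) ⁻¹ᵁ V),
      ((v ≫ f).appLE V ⊤ hle).hom.FaithfullyFlat := by
  have hc : IsCompact (f ⁻¹ᵁ V : Set X') := f.isCompact_preimage hV.isCompact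
  obtain ⟨s, hs, he⟩ := isCompact_and_isOpen_iff_finite_and_eq_biUnion_affineOpens.mp
    ⟨hc, (f ⁻¹ᵁ V).2⟩
  haveI := hs.to_subtype
  haveI : ∀ W : s, IsAffine (W.1.1 : X'.Opens).toScheme := fun W => W.1.2
  let v : (∐ fun W : s => ((W.1.1 : X'.Opens) : Scheme.{u})) ⟶ X' := Sigma.desc fun W : s => (W.1.1 : X'.Opens).ι
  have hW : ∀ (W : s), (W.1.1 : X'.Opens) ≤ f ⁻¹ᵁ V := fun W x hx => by
    show x ∈ (f ⁻¹ᵁ V : Set X')
    rw [he]
    exact Set.mem_iUnion₂.mpr ⟨W.1, W.2, hx⟩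
  have hle : (⊤ : Scheme.Opens _) ≤ (v ≫ f) ⁻¹ᵁ V := by
    intro t _
    obtain ⟨W, w, rfl⟩ : ∃ (W : s) (w : _), Sigma.ι (fun W : s => ((W.1.1 : X'.Opens) : Scheme.{u})) W w = t := by
      obtain ⟨W, w, hw⟩ := (sigmaOpenCover fun W : s => ((W.1.1 : X'.Opens) : Scheme.{u})).exists_eq t
      exact ⟨W, w, hw⟩
    show (Sigma.ι (fun W : s => ((W.1.1 : X'.Opens) : Scheme.{u})) W ≫ v ≫ f) w ∈ V
    rw [Sigma.ι_desc_assoc]
    exact hW W w.2
  haveI : Flat v := inferInstance
  refine ⟨_, inferInstance, v, hle, ?_⟩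
  rw [RingHom.FaithfullyFlat.iff_flat_and_comap_surjective]
  refine ⟨HasRingHomProperty.appLE (P := @Flat) (v ≫ f) inferInstance ⟨V, hV⟩ ⟨⊤, isAffineOpen_top _⟩ hle, ?_⟩
  intro p
  have hxV : hV.fromSpec p ∈ V := hV.range_fromSpec.subset ⟨p, rfl⟩
  obtain ⟨x', hx'⟩ := f.surjective (hV.fromSpec p)
  have hx'V : x' ∈ (f ⁻¹ᵁ V : Set X') := by
    show f x' ∈ V
    rw [hx']; exact hxV
  rw [he] at hx'V
  obtain ⟨W, hWs, hxW⟩ := Set.mem_iUnion₂.mp hx'V
  let t := Sigma.ι (fun W : s => ((W.1.1 : X'.Opens) : Scheme.{u})) ⟨W, hWs⟩ ⟨x', hxW⟩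
  have ht : (v ≫ f) t = hV.fromSpec p := by
    show (Sigma.ι (fun W : s => ((W.1.1 : X'.Opens) : Scheme.{u})) ⟨W, hWs⟩ ≫ v ≫ f) ⟨x', hxW⟩ = _
    rw [Sigma.ι_desc_assoc]
    exact hx'
  refine ⟨(isAffineOpen_top _).primeIdealOf ⟨t, Set.mem_univ t⟩, hV.fromSpec.isOpenEmbedding.injective ?_⟩
  show (Spec.map ((v ≫ f).appLE V ⊤ hle) ≫ hV.fromSpec) _ = _
  rw [IsAffineOpen.SpecMap_appLE_fromSpec _ hV (isAffineOpen_top _) hle]
  show (v ≫ f) ((isAffineOpen_top _).fromSpec ((isAffineOpen_top _).primeIdealOf ⟨t, Set.mem_univ t⟩)) = _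
  rw [IsAffineOpen.fromSpec_primeIdealOf]
  exact ht

/-- Finite local freeness descends. -/
theorem isFinLocFree_of_pullback (F : X.Modules) [F.IsQuasicoherent]
    (h : FlatMod.IsFinLocFree ((Scheme.Modules.pullback f).obj F)) : FlatMod.IsFinLocFree F := by
  refine H8Props.FinLocFree.isFinLocFree_of_sections F ‹_› fun x => ?_
  obtain ⟨V, hV, hxV, -⟩ := exists_isAffineOpen_mem_and_subset (X := X) (x := x) (U := ⊤) trivial
  obtain ⟨T, _, v, hle, hff⟩ := exists_affine_faithfullyFlat f hV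
  have hT : FlatMod.IsFinLocFree ((Scheme.Modules.pullback (v ≫ f)).obj F) := by
    have h1 := H16Derived.KFlat.Stalk.isFinLocFree_pullback v h
    intro t
    obtain ⟨U, n, htU, ⟨e⟩⟩ := h1 t
    exact ⟨U, n, htU, ⟨(Scheme.Modules.restrictFunctor U.ι).mapIso ((Scheme.Modules.pullbackComp v f).app F).symm ≪≫ e⟩⟩
  letI := ((v ≫ f).appLE V ⊤ hle).hom.toAlgebra
  letI := Module.compHom Γ((Scheme.Modules.pullback (v ≫ f)).obj F, ⊤) ((v ≫ f).appLE V ⊤ hle).hom
  haveI : IsScalarTower Γ(X, V) Γ(T, ⊤) Γ((Scheme.Modules.pullback (v ≫ f)).obj F, ⊤) :=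
    .of_algebraMap_smul fun _ _ => rfl
  haveI : Module.FaithfullyFlat Γ(X, V) Γ(T, ⊤) := hff
  obtain ⟨i1, i2⟩ := H8Props.FinLocFree.finite_projective_sections _ hT (isAffineOpen_top T)
  let e := (H8Props.PullSections.isBaseChange_pullLin (v ≫ f) F hle ‹_› hV (isAffineOpen_top T)).equiv
  haveI := Module.Finite.equiv e.symm
  haveI := Module.Projective.of_equiv e.symm
  haveI : Module.Finite Γ(X, V) Γ(F, V) := .of_finite_tensorProduct_of_faithfullyFlat Γ(T, ⊤)
  haveI : Module.Projective Γ(X, V) Γ(F, V) := Groth.Agent.S0585.result Γ(X, V) Γ(T, ⊤) Γ(F, V)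
  exact ⟨V, hV, hxV, Module.finitePresentation_of_projective _ _, inferInstance⟩

/-- Isomorphisms of quasi-coherent modules descend. -/
theorem isIso_of_isIso_pullback {F G : X.Modules} (φ : F ⟶ G) (hF : Coh.IsQCoh F) (hG : Coh.IsQCoh G)
    [IsIso ((Scheme.Modules.pullback f).map φ)] : IsIso φ := by
  refine LeadDev.isIso_of_bijective_affine φ hF hG fun V hV => ?_
  obtain ⟨T, _, v, hle, hff⟩ := exists_affine_faithfullyFlat f hV
  let q := v ≫ f
  haveI : IsIso ((Scheme.Modules.pullback q).map φ) :=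
    (NatIso.isIso_map_iff (Scheme.Modules.pullbackComp v f) φ).mp
      (inferInstanceAs (IsIso ((Scheme.Modules.pullback v).map ((Scheme.Modules.pullback f).map φ))))
  letI := (q.appLE V ⊤ hle).hom.toAlgebra
  letI := Module.compHom Γ((Scheme.Modules.pullback q).obj F, ⊤) (q.appLE V ⊤ hle).hom
  letI := Module.compHom Γ((Scheme.Modules.pullback q).obj G, ⊤) (q.appLE V ⊤ hle).hom
  haveI : IsScalarTower Γ(X, V) Γ(T, ⊤) Γ((Scheme.Modules.pullback q).obj F, ⊤) :=
    .of_algebraMap_smul fun _ _ => rfl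
  haveI : IsScalarTower Γ(X, V) Γ(T, ⊤) Γ((Scheme.Modules.pullback q).obj G, ⊤) :=
    .of_algebraMap_smul fun _ _ => rfl
  haveI : Module.FaithfullyFlat Γ(X, V) Γ(T, ⊤) := hff
  let φV : Γ(F, V) →ₗ[Γ(X, V)] Γ(G, V) :=
    { toFun := φ.app V
      map_add' := fun a b => map_add _ a b
      map_smul' := fun r a => Scheme.Modules.Hom.app_smul φ r a }
  show Function.Bijective φV
  rw [← Module.FaithfullyFlat.lTensor_bijective_iff_bijective Γ(X, V) Γ(T, ⊤)]
  let eF := (H8Props.PullSections.isBaseChange_pullLin q F hle hF hV (isAffineOpen_top T)).equiv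
  let eG := (H8Props.PullSections.isBaseChange_pullLin q G hle hG hV (isAffineOpen_top T)).equiv
  have key : ∀ z, eG (φV.lTensor Γ(T, ⊤) z) = ((Scheme.Modules.pullback q).map φ).app ⊤ (eF z) := by
    intro z
    induction z using TensorProduct.induction_on with
    | zero => simp
    | add a b ha hb => rw [map_add, map_add, map_add, ha, hb]; exact (map_add _ _ _).symm
    | tmul b m =>
      rw [LinearMap.lTensor_tmul, IsBaseChange.equiv_tmul, IsBaseChange.equiv_tmul, Scheme.Modules.Hom.app_smul]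
      congr 1
      show ((Scheme.Modules.pullback q).obj G).presheaf.map (homOfLE hle).op
        (OmegaSh.pullSect q G V (φ.app V m)) = _
      rw [Groth.Agent.H17.PullSect.pullSect_natural q φ V m]
      exact (congr($(((Scheme.Modules.pullback q).map φ).mapPresheaf.naturality (homOfLE hle).op)
        (OmegaSh.pullSect q F V m))).symm
  have hcomp : Function.Bijective (fun z => eG (φV.lTensor Γ(T, ⊤) z)) := by
    simp only [key]
    exact (ConcreteCategory.bijective_of_isIso (((Scheme.Modules.pullback q).map φ).app ⊤)).comp eF.bijective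
  exact (Function.Bijective.of_comp_iff' eG.bijective _).mp hcomp

end Groth.Agent.H23Para
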