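import Groth.Agent.H23Para.Pair
import Groth.Agent.H23Para.FpqcDescent
import Groth.Agent.S0033
import Groth.Agent.H28Mero.Gen
import Groth.Agent.H11Ample.Converse
import Groth.Agent.H8Props.FunDescent.GenericLimit
import Groth.Agent.H29Ref.Free

/-!
# Flat descent of parafactorial pairs
-/

set_option autoImplicit false
set_option linter.style.haveILetI false

noncomputable section

universe u

open CategoryTheory CategoryTheory.Limits AlgebraicGeometry Opposite TopologicalSpace

namespace Groth.Agent.H23Para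

variable {X X' : Scheme.{u}} (f : X' ⟶ X) [QuasiCompact f] [Flat f] [Surjective f]

theorem isFreeOfRankNear_one_of_iso {Y : Scheme.{u}} {M : Y.Modules} {U : Y.Opens} {y : Y} (hy : y ∈ U)
    (e : M.restrict U.ι ≅ Coh.structureModule (U : Scheme.{u})) : FlatFun.IsFreeOfRankNear M 1 y :=
  ⟨U, hy, ⟨e ≪≫ (coproductUniqueIso fun _ : Fin 1 => Coh.structureModule (U : Scheme.{u})).symm⟩⟩

/-- Invertibility descends. -/
theorem isInvertible_of_pullback (F : X.Modules) [F.IsQuasicoherent]
    (h : PicF.IsInvertible ((Scheme.Modules.pullback f).obj F)) : PicF.IsInvertible F := by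
  have hF := isFinLocFree_of_pullback f F (isFinLocFree_of_isInvertible h)
  intro x
  obtain ⟨U, n, hxU, ⟨e⟩⟩ := hF x
  obtain ⟨x', rfl⟩ := f.surjective x
  obtain ⟨U', hx'U', ⟨e'⟩⟩ := h x'
  have hn : FlatFun.IsFreeOfRankNear ((Scheme.Modules.pullback f).obj F) n x' :=
    ⟨f ⁻¹ᵁ U, hxU, ⟨(H16Derived.KFlat.Stalk.pullbackRestrictIso f U).app F ≪≫
      (Scheme.Modules.pullback (f ∣_ U)).mapIso e ≪≫ H16Derived.KFlat.Stalk.freeModPullbackIso (f ∣_ U) n⟩⟩
  have hq := H8Props.FinLocFree.isQCoh_of_isFinLocFree _ (isFinLocFree_of_isInvertible h)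
  have h1 := H8Props.FunDescent.stalkFree_unique
    (H8Props.FunDescent.stalkFree_of_isFreeOfRankNear _ hq hn)
    (H8Props.FunDescent.stalkFree_of_isFreeOfRankNear _ hq (isFreeOfRankNear_one_of_iso hx'U' e'))
  exact H29Ref.exists_iso_of_isFreeOfRankNear_one F (f x') (h1 ▸ ⟨U, hxU, ⟨e⟩⟩)

/-- Direct images of invertible modules are invertible if they are after pulling back. -/
theorem isInvertible_pushforward_of_flat {U : X.Opens} (he : ExtProp (f ⁻¹ᵁ U)) {Z : Scheme.{u}}
    (j : Z ⟶ X) [IsOpenImmersion j] [QuasiCompact j] (hj : j.opensRange = U) (L : Z.Modules)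
    (hL : PicF.IsInvertible L) : PicF.IsInvertible ((Scheme.Modules.pushforward j).obj L) := by
  haveI : L.IsQuasicoherent := H28Mero.isQCoh_of_isInvertible hL
  haveI := H10Coh.isQuasicoherent_pushforward j L
  haveI : HasInjectiveResolutions Z.Modules := by
    haveI := H10Coh.enoughInjMod Z; infer_instance
  haveI : HasInjectiveResolutions (pullback j f).Modules := by
    haveI := H10Coh.enoughInjMod (pullback j f); infer_instance
  haveI : Coh.IsQCoh L := ‹L.IsQuasicoherent›
  obtain ⟨e⟩ := Groth.Agent.S0033.result j f (pullback.fst j f) (pullback.snd j f)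
    (IsPullback.of_hasPullback j f) L 0
  haveI : (Scheme.Modules.pushforward j).IsRightAdjoint :=
    (Scheme.Modules.pullbackPushforwardAdjunction j).isRightAdjoint
  haveI : (Scheme.Modules.pushforward (pullback.snd j f)).IsRightAdjoint :=
    (Scheme.Modules.pullbackPushforwardAdjunction (pullback.snd j f)).isRightAdjoint
  have hr : (pullback.snd j f).opensRange = (𝟙 X') ⁻¹ᵁ (f ⁻¹ᵁ U) := by
    rw [Scheme.Hom.opensRange_pullbackSnd, hj]
    rfl
  have h' := he (𝟙 X') (pullback.snd j f) hr _ (H11Ample.isInvertible_pullback (pullback.fst j f) hL)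
  exact isInvertible_of_pullback f _ (H11Tilde.isInvertible_of_iso
    ((Scheme.Modules.pullback f).mapIso ((Scheme.Modules.pushforward j).rightDerivedZeroIsoSelf.app L).symm ≪≫ e ≪≫
      (Scheme.Modules.pushforward (pullback.snd j f)).rightDerivedZeroIsoSelf.app _).symm h')

/-- A map between modules with bijective restrictions to `U` is an isomorphism if it is one over `U`. -/
theorem isIso_of_restrict {Y : Scheme.{u}} {U : Y.Opens} {M N : Y.Modules} (a : M ⟶ N) (hM : SecBij U M)
    (hN : SecBij U N) [IsIso ((Scheme.Modules.restrictFunctor U.ι).map a)] : IsIso a := by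
  have hM' : SecBij U.ι.opensRange M := by rwa [Scheme.Opens.opensRange_ι]
  have hN' : SecBij U.ι.opensRange N := by rwa [Scheme.Opens.opensRange_ι]
  obtain ⟨b, hb⟩ := (bijective_restrict_map U.ι N hM').2 (inv ((Scheme.Modules.restrictFunctor U.ι).map a))
  beta_reduce at hb
  exact ⟨b, (bijective_restrict_map U.ι M hM').1 (by simp [hb]), (bijective_restrict_map U.ι N hN').1 (by simp [hb])⟩

/-- Functions extend if they do after a faithfully flat base change. -/
theorem funBij_of_flat {U : X.Opens} [QuasiCompact U.ι] (hf : FunBij (f ⁻¹ᵁ U)) (he : ExtProp (f ⁻¹ᵁ U)) :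
    FunBij U := by
  let O := Coh.structureModule X
  let P := (Scheme.Modules.pushforward U.ι).obj (O.restrict U.ι)
  let η : O ⟶ P := (Scheme.Modules.restrictAdjunction U.ι).unit.app O
  have hP : PicF.IsInvertible P := isInvertible_pushforward_of_flat f he U.ι (Scheme.Opens.opensRange_ι U) _
    (isInvertible_restrict U.ι isInvertible_structureModule)
  haveI : IsIso ((Scheme.Modules.restrictFunctor U.ι).map η) := by
    have h := (Scheme.Modules.restrictAdjunction U.ι).left_triangle_components O
    exact IsIso.of_isIso_fac_right h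
  haveI : IsIso ((Scheme.Modules.pullback (f ∣_ U)).map ((Scheme.Modules.restrictFunctor U.ι).map η)) := inferInstance
  haveI : IsIso ((Scheme.Modules.restrictFunctor (f ⁻¹ᵁ U).ι).map ((Scheme.Modules.pullback f).map η)) :=
    (NatIso.isIso_map_iff (H16Derived.KFlat.Stalk.pullbackRestrictIso f U) η).mpr ‹_›
  haveI : IsIso ((Scheme.Modules.pullback f).map η) :=
    isIso_of_restrict _ (secBij_of_isInvertible hf (H11Ample.isInvertible_pullback f isInvertible_structureModule))
      (secBij_of_isInvertible hf (H11Ample.isInvertible_pullback f hP))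
  haveI : IsIso η := isIso_of_isIso_pullback f η (H28Mero.isQCoh_of_isInvertible isInvertible_structureModule)
    (H28Mero.isQCoh_of_isInvertible hP)
  exact (isIso_unit_ι_iff U O).mp ‹_›

/-- Parafactorial pairs descend along fpqc morphisms. -/
theorem pair_of_flat {Y : Closeds X} [hqc : QuasiCompact (Scheme.Opens.ι (Y.compl : X.Opens))]
    (h : ParaF.IsParafactorialPair X' (ParaF.closedsPreimage f Y)) : ParaF.IsParafactorialPair X Y := by
  obtain ⟨hf, he⟩ := pair_iff.mp h
  have heq : (ParaF.closedsPreimage f Y).compl = f ⁻¹ᵁ Y.compl := Opens.ext rfl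
  rw [heq] at hf he
  haveI := hqc
  refine pair_iff.mpr ⟨@funBij_of_flat X X' f _ _ _ Y.compl hqc hf he, ?_⟩
  intro T Z g j _ _ hj L hL
  haveI : Flat (pullback.snd f g) := inferInstance
  have hpre : (pullback.snd f g) ⁻¹ᵁ (g ⁻¹ᵁ Y.compl) = (pullback.fst f g) ⁻¹ᵁ (f ⁻¹ᵁ Y.compl) := by
    rw [← Scheme.Hom.comp_preimage, ← Scheme.Hom.comp_preimage, pullback.condition]
  have he' : ExtProp ((pullback.snd f g) ⁻¹ᵁ (g ⁻¹ᵁ Y.compl)) := hpre ▸ ExtProp.restrict (pullback.fst f g) he
  haveI : QuasiCompact (g ⁻¹ᵁ (Y.compl : X.Opens)).ι :=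
    MorphismProperty.of_isPullback (isPullback_morphismRestrict g Y.compl) hqc
  haveI : QuasiCompact j := by
    have hr : Set.range j = Set.range (g ⁻¹ᵁ (Y.compl : X.Opens)).ι := by
      rw [Scheme.Opens.range_ι]; exact congrArg SetLike.coe hj
    rw [← IsOpenImmersion.isoOfRangeEq_hom_fac j (g ⁻¹ᵁ (Y.compl : X.Opens)).ι hr]
    infer_instance
  exact isInvertible_pushforward_of_flat (pullback.snd f g) he' j hj L hL

end Groth.Agent.H23Para
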