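import Groth.Agent.H23Para.Principal
import Groth.Agent.H1CAlg.Serre

/-!
# Factoriality through the punctured spectrum
-/

set_option autoImplicit false
set_option linter.style.haveILetI false

noncomputable section

universe u

open AlgebraicGeometry TopologicalSpace CategoryTheory Opposite

namespace Groth.Agent.H23Para

variable {A : Type u} [CommRing A] [IsLocalRing A] [IsNoetherianRing A]

/-- The stalk of an affine scheme as a localisation. -/
def stalkEquiv (p : PrimeSpectrum A) :
    Localization.AtPrime p.asIdeal ≃+* (Spec (CommRingCat.of A)).presheaf.stalk p :=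
  (IsLocalization.algEquiv p.asIdeal.primeCompl (Localization.AtPrime p.asIdeal)
    ((Spec.structureSheaf A).presheaf.stalk p)).toRingEquiv

theorem forall_punctured_iff :
    (∀ y : ↥(Spec (CommRingCat.of A)), y ∈ FEt.puncturedSpec A →
        IsDomain ((Spec (CommRingCat.of A)).presheaf.stalk y) ∧
          UniqueFactorizationMonoid ((Spec (CommRingCat.of A)).presheaf.stalk y)) ↔
      ∀ p : PrimeSpectrum A, p ≠ IsLocalRing.closedPoint A →
        IsDomain (Localization.AtPrime p.asIdeal) ∧ UniqueFactorizationMonoid (Localization.AtPrime p.asIdeal) := by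
  refine ⟨fun h p hp => ?_, fun h y hy => ?_⟩
  · haveI := (h p hp).1
    haveI := (h p hp).2
    exact ⟨(stalkEquiv p).toMulEquiv.isDomain _, (stalkEquiv p).symm.toMulEquiv.uniqueFactorizationMonoid ‹_›⟩
  · haveI := (h y hy).1
    haveI := (h y hy).2
    exact ⟨(stalkEquiv (A := A) y).symm.toMulEquiv.isDomain _,
      (stalkEquiv (A := A) y).toMulEquiv.uniqueFactorizationMonoid ‹_›⟩

def atMaximal : A ≃+* Localization.AtPrime (IsLocalRing.maximalIdeal A) :=
  (IsLocalization.atUnits A (IsLocalRing.maximalIdeal A).primeCompl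
    (S := Localization.AtPrime (IsLocalRing.maximalIdeal A)) (fun a ha => by
      simpa [IsLocalRing.mem_maximalIdeal, IsUnit.mem_submonoid_iff] using ha)).toRingEquiv

omit [IsLocalRing A] [IsNoetherianRing A] in
theorem isRegularLocalRing_of_ufd_dim_le_one {B : Type u} [CommRing B] [IsDomain B] [IsNoetherianRing B]
    [IsLocalRing B] [UniqueFactorizationMonoid B] (h : ringKrullDim B ≤ 1) : IsRegularLocalRing B :=
  Groth.Agent.H1CAlg.isRegularLocalRing_of_isIntegrallyClosed h

/-- Depth two and factoriality off the closed point give a normal domain. -/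
theorem isDomain_and_isIntegrallyClosed (hdim : (2 : WithBot ℕ∞) ≤ ringKrullDim A)
    (hd : (2 : ℕ∞) ≤ LocCoh.depth A A)
    (hU : ∀ p : PrimeSpectrum A, p ≠ IsLocalRing.closedPoint A →
      IsDomain (Localization.AtPrime p.asIdeal) ∧ UniqueFactorizationMonoid (Localization.AtPrime p.asIdeal)) :
    IsDomain A ∧ IsIntegrallyClosed A := by
  have hne : ∀ (p : Ideal A) [p.IsPrime], ¬ (2 : WithBot ℕ∞) ≤ (p.height : WithBot ℕ∞) →
      (⟨p, ‹_›⟩ : PrimeSpectrum A) ≠ IsLocalRing.closedPoint A := by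
    intro p _ hh he
    have : p = IsLocalRing.maximalIdeal A := congrArg PrimeSpectrum.asIdeal he
    subst this
    rw [IsLocalRing.maximalIdeal_height_eq_ringKrullDim] at hh
    exact hh hdim
  have hR : LocCoh.HasRk 1 A := by
    intro p hp hh
    obtain ⟨_, _⟩ := hU ⟨p, hp⟩ (hne p fun h2 => absurd (le_trans (WithBot.coe_le_coe.mp h2) hh) (by decide))
    refine isRegularLocalRing_of_ufd_dim_le_one ?_
    rw [IsLocalization.AtPrime.ringKrullDim_eq_height p]
    exact_mod_cast hh
  have hS : LocCoh.HasSk 2 A A := by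
    intro p hp
    obtain ⟨e⟩ := Groth.Agent.H4Depth.exists_localizedModule_self_equiv (R := A) p
    rw [Groth.Agent.H4Depth.depth_congr e, Module.supportDim_eq_of_equiv e, Module.supportDim_self_eq_ringKrullDim]
    by_cases hm : p = IsLocalRing.maximalIdeal A
    · subst hm
      rw [← H05EGA4.depth_eq_of_ringEquiv (atMaximal (A := A))]
      exact (min_le_left _ _).trans (WithBot.coe_le_coe.mpr hd)
    obtain ⟨_, _⟩ := hU ⟨p, hp⟩ fun he => hm (congrArg PrimeSpectrum.asIdeal he)
    by_cases h2 : 2 ≤ ringKrullDim (Localization.AtPrime p)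
    · exact (min_le_left _ _).trans
        (WithBot.coe_le_coe.mpr (Groth.Agent.H1CAlg.depth_ge_two_of_isIntegrallyClosed h2))
    · have hle : ringKrullDim (Localization.AtPrime p) ≤ 1 := by
        rw [IsLocalization.AtPrime.ringKrullDim_eq_height p] at h2 ⊢
        refine WithBot.coe_le_coe.mpr (not_lt.mp fun hlt => h2 ?_)
        exact WithBot.coe_le_coe.mpr (le_trans (le_of_eq (by norm_num)) (Order.add_one_le_of_lt hlt))
      haveI := isRegularLocalRing_of_ufd_dim_le_one hle
      rw [Groth.Agent.H4Depth.depth_self_eq_ringKrullDim_of_regular]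
      exact min_le_right _ _
  obtain ⟨h1, h2⟩ := Groth.Agent.H1CAlg.isDomain_and_isIntegrallyClosed_of_R1_S2 hR hS (IsLocalRing.maximalIdeal A)
  exact ⟨(atMaximal (A := A)).toMulEquiv.isDomain _, IsIntegrallyClosed.of_equiv (atMaximal (A := A)).symm⟩

/-- A prime minimal over a nonzero element is locally principal where the ring is factorial. -/
theorem locallyPrincipal_of_minimal [IsDomain A] {x : A} (hx : x ≠ 0) {Q : Ideal A}
    (hQ : Q ∈ (Ideal.span {x}).minimalPrimes) (z : PrimeSpectrum A)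
    [UniqueFactorizationMonoid (Localization.AtPrime z.asIdeal)] :
    ∃ f ∉ z.asIdeal, ∃ a ∈ Q, ∀ q ∈ Q, a ∣ f * q := by
  obtain ⟨⟨hQp, hxQ⟩, hmin⟩ := hQ
  by_cases hQz : ¬ Q ≤ z.asIdeal
  · obtain ⟨f, hfQ, hfz⟩ := SetLike.not_le_iff_exists.mp hQz
    exact ⟨f, hfz, f, hfQ, fun q _ => dvd_mul_right f q⟩
  push Not at hQz
  let B := Localization.AtPrime z.asIdeal
  let φ := algebraMap A B
  have hdisj : Disjoint (z.asIdeal.primeCompl : Set A) (Q : Set A) :=
    Set.disjoint_left.mpr fun a ha ha' => ha (hQz ha')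
  haveI : (Q.map φ).IsPrime := IsLocalization.isPrime_of_isPrime_disjoint z.asIdeal.primeCompl B Q hQp hdisj
  have hcomap : (Q.map φ).comap φ = Q := IsLocalization.under_map_of_isPrime_disjoint z.asIdeal.primeCompl B hQp hdisj
  have hinj : Function.Injective φ := IsLocalization.injective B z.asIdeal.primeCompl_le_nonZeroDivisors
  have hx0 : φ x ≠ 0 := fun h => hx (hinj (h.trans (map_zero φ).symm))
  obtain ⟨π, hπP, hπd⟩ : ∃ π, π ∈ UniqueFactorizationMonoid.factors (φ x) ∧ π ∈ Q.map φ := by
    have hprod : (UniqueFactorizationMonoid.factors (φ x)).prod ∈ Q.map φ := by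
      obtain ⟨v, hv⟩ := UniqueFactorizationMonoid.factors_prod hx0
      refine ((inferInstance : (Q.map φ).IsPrime).mem_or_mem
        (hv.symm ▸ Ideal.mem_map_of_mem φ (hxQ (Ideal.mem_span_singleton_self x)))).resolve_right fun h => ?_
      exact (inferInstance : (Q.map φ).IsPrime).ne_top (Ideal.eq_top_of_isUnit_mem _ h v.isUnit)
    exact (Ideal.IsPrime.multiset_prod_mem_iff_exists_mem inferInstance _).mp hprod
  have hπp : Prime π := UniqueFactorizationMonoid.prime_of_factor π hπP
  obtain ⟨a, s, rfl⟩ := IsLocalization.exists_mk'_eq z.asIdeal.primeCompl π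
  have hmem : ∀ q : A, φ q ∈ Ideal.span {IsLocalization.mk' B a s} ↔ φ a ∣ φ q := fun q => by
    rw [Ideal.mem_span_singleton]
    exact IsUnit.mul_right_dvd (u := φ (s : A)) (IsLocalization.map_units B s) |>.symm.trans
      (by rw [IsLocalization.mk'_spec]) |>.symm.symm
  have ha : a ∈ Q := by
    rw [← hcomap, Ideal.mem_comap, ← IsLocalization.mk'_spec B a s]
    exact Ideal.mul_mem_right _ _ hπd
  have hP' : ((Ideal.span {IsLocalization.mk' B a s}).comap φ) = Q := by
    haveI : (Ideal.span {IsLocalization.mk' B a s}).IsPrime := (Ideal.span_singleton_prime hπp.ne_zero).mpr hπp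
    refine le_antisymm (fun q hq => ?_) (hmin ⟨inferInstance, ?_⟩ fun q hq => ?_)
    · rw [← hcomap]
      exact (Ideal.span_singleton_le_iff_mem _).mpr hπd hq
    · rw [Ideal.span_singleton_le_iff_mem, Ideal.mem_comap, Ideal.mem_span_singleton]
      exact UniqueFactorizationMonoid.dvd_of_mem_factors hπP
    · rw [← hcomap]
      exact (Ideal.span_singleton_le_iff_mem _).mpr hπd hq
  obtain ⟨T, hT⟩ := IsNoetherian.noetherian Q
  have hq : ∀ q ∈ Q, ∃ f ∉ z.asIdeal, a ∣ f * q := by
    intro q hq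
    rw [← hP', Ideal.mem_comap, hmem] at hq
    obtain ⟨c, hc⟩ := hq
    obtain ⟨b, t, rfl⟩ := IsLocalization.exists_mk'_eq z.asIdeal.primeCompl c
    refine ⟨t, t.2, b, hinj ?_⟩
    rw [map_mul, map_mul, hc, ← IsLocalization.mk'_spec B b t]
    ring
  choose! F hFz hF using hq
  refine ⟨∏ q ∈ T, F q, fun h => ?_, a, ha, fun q hq => ?_⟩
  · obtain ⟨q, hqT, hqz⟩ := Ideal.IsPrime.prod_mem_iff.mp h
    exact hFz q (hT ▸ Submodule.subset_span hqT) hqz
  · have : q ∈ ((Ideal.span {a} : Ideal A).colon {∏ q ∈ T, F q}) := by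
      have hsub : Submodule.span A (T : Set A) ≤ (Ideal.span {a} : Ideal A).colon {∏ q ∈ T, F q} := by
        rw [Submodule.span_le]
        intro r hr
        simp only [SetLike.mem_coe, Submodule.mem_colon_singleton, smul_eq_mul, Ideal.mem_span_singleton]
        rw [mul_comm]
        exact (hF r (hT ▸ Submodule.subset_span hr)).trans (mul_dvd_mul_right (Finset.dvd_prod_of_mem F hr) r)
      exact hsub (hT ▸ hq)
    rw [Submodule.mem_colon_singleton, smul_eq_mul, Ideal.mem_span_singleton, mul_comm] at this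
    exact this

/-- Factoriality from depth two, factoriality off the closed point and trivial Picard group there. -/
theorem ufd_of_punctured (hdim : (2 : WithBot ℕ∞) ≤ ringKrullDim A)
    (hd : (2 : ℕ∞) ≤ LocCoh.depth A A)
    (hU : ∀ p : PrimeSpectrum A, p ≠ IsLocalRing.closedPoint A →
      IsDomain (Localization.AtPrime p.asIdeal) ∧ UniqueFactorizationMonoid (Localization.AtPrime p.asIdeal))
    (hpic : ParaF.PicTrivial (FEt.puncturedSpec A : Scheme.{u})) :
    IsDomain A ∧ UniqueFactorizationMonoid A := by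
  obtain ⟨_, -⟩ := isDomain_and_isIntegrallyClosed hdim hd hU
  refine ⟨inferInstance, UniqueFactorizationMonoid.iff_exists_prime_mem_of_isPrime.mpr fun P hP0 hP => ?_⟩
  obtain ⟨x, hxP, hx0⟩ := Submodule.exists_mem_ne_zero_of_ne_bot hP0
  obtain ⟨Q, hQmin, hQP⟩ := Ideal.exists_minimalPrimes_le (J := P) ((Ideal.span_singleton_le_iff_mem _).mpr hxP)
  haveI hQp : Q.IsPrime := hQmin.1.1
  have hQ0 : Q ≠ ⊥ := fun h => hx0 (by simpa [h] using hQmin.1.2 (Ideal.mem_span_singleton_self x))
  have hQm : Q ≠ IsLocalRing.maximalIdeal A := by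
    intro h
    have h1 : Q.height ≤ 1 := Ideal.height_le_one_of_isPrincipal_of_mem_minimalPrimes _ _ hQmin
    subst h
    have h2 := hdim
    rw [← IsLocalRing.maximalIdeal_height_eq_ringKrullDim] at h2
    exact absurd (le_trans (WithBot.coe_le_coe.mp h2) h1) (by decide)
  obtain ⟨k, δ, hk, hunit⟩ := exists_mul_of_locallyPrincipal (R := CommRingCat.of A) hd hpic Q hQ0 fun z hz => by
    haveI := (hU z hz).2
    exact locallyPrincipal_of_minimal hx0 hQmin z
  obtain ⟨q, hq⟩ := hunit ⟨Q, hQp⟩ fun h => hQm (congrArg PrimeSpectrum.asIdeal h)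
  have hkQ : k ∈ Q := (hQp.mem_or_mem (hk q ▸ q.2)).resolve_right hq
  refine ⟨k, hQP hkQ, ?_⟩
  have hQk : Q = Ideal.span {k} := le_antisymm
    (fun r hr => Ideal.mem_span_singleton.mpr ⟨δ ⟨r, hr⟩, hk ⟨r, hr⟩⟩) ((Ideal.span_singleton_le_iff_mem _).mpr hkQ)
  refine (Ideal.span_singleton_prime fun h0 => hQ0 ?_).mp (hQk ▸ hQp)
  rw [hQk, h0, Ideal.span_singleton_eq_bot]

end Groth.Agent.H23Para
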