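import Groth.Agent.H23Para.StalkExt

/-!
# Parafactorial pairs and local rings
-/

set_option autoImplicit false
set_option linter.style.haveILetI false

noncomputable section

universe u

open CategoryTheory CategoryTheory.Limits AlgebraicGeometry Opposite TopologicalSpace

namespace Groth.Agent.H23Para

variable {X : Scheme.{u}}

theorem bijective_map_of_eq (M : X.Modules) {A B : X.Opens} (e : A = B) (h : A ≤ B) :
    Function.Bijective (M.presheaf.map (homOfLE h).op) := by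
  subst e
  rw [show (homOfLE h).op = 𝟙 _ from rfl, CategoryTheory.Functor.map_id]
  exact Function.bijective_id

theorem SecBij.mono {U W : X.Opens} {M : X.Modules} (hle : U ≤ W) (h : SecBij U M) : SecBij W M := by
  intro V
  have h1 : Function.Bijective (M.presheaf.map (homOfLE (inf_le_inf_left V hle : V ⊓ U ≤ V ⊓ W)).op) :=
    (bijective_map_congr M (by rw [inf_assoc, inf_eq_right.mpr hle]) rfl inf_le_left _).mp (h (V ⊓ W))
  have e : M.presheaf.map (homOfLE (inf_le_left : V ⊓ W ≤ V)).op ≫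
      M.presheaf.map (homOfLE (inf_le_inf_left V hle : V ⊓ U ≤ V ⊓ W)).op =
        M.presheaf.map (homOfLE (inf_le_left : V ⊓ U ≤ V)).op := by
    rw [← Functor.map_comp]; rfl
  have h2 := h V
  rw [← e] at h2
  exact ⟨fun a b hab => h2.1 (by rw [ConcreteCategory.comp_apply, ConcreteCategory.comp_apply, hab]), fun c => by
    obtain ⟨a, ha⟩ := h2.2 (M.presheaf.map (homOfLE (inf_le_inf_left V hle : V ⊓ U ≤ V ⊓ W)).op c)
    rw [ConcreteCategory.comp_apply] at ha
    exact ⟨a, h1.1 ha⟩⟩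

/-- Direct images from opens inside `U` have bijective restrictions to `U`. -/
theorem secBij_pushforward {U U₁ : X.Opens} (hle : U₁ ≤ U) (L : (U₁ : Scheme.{u}).Modules) :
    SecBij U ((Scheme.Modules.pushforward U₁.ι).obj L) := fun V =>
  bijective_map_of_eq L (A := U₁.ι ⁻¹ᵁ (V ⊓ U)) (B := U₁.ι ⁻¹ᵁ V)
    (le_antisymm (fun _ hx => hx.1) fun x hx => ⟨hx, hle x.2⟩) _

/-- Invertible modules extend across points with parafactorial local rings. -/
theorem extProp_of_stalks [IsLocallyNoetherian X] {U : X.Opens}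
    (h : ∀ x : X, x ∉ U → ParaF.IsParafactorialLocalRing (X.presheaf.stalk x)) : ExtProp U := by
  have hf : FunBij U := funBij_of_depth U fun x hx =>
    bijective_punctured_iff.mp (isParafactorialLocalRing_iff.mp (h x hx)).1
  refine extProp_of_opens fun V L hL => ?_
  let U₁ : X.Opens := V ⊓ U
  let P : X.Modules := (Scheme.Modules.pushforward U₁.ι).obj L
  have hP : SecBij U P := secBij_pushforward inf_le_right L
  let Good : X → Prop := fun x => ∃ O : X.Opens, x ∈ O ∧ O ≤ V ∧ Nonempty (P.restrict O.ι ≅ Coh.structureModule _)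
  let W₀ : X.Opens := ⟨{x | Good x}, isOpen_iff_forall_mem_open.mpr fun x ⟨O, hxO, hOV, e⟩ =>
    ⟨(O : Set X), fun y hy => ⟨O, hy, hOV, e⟩, O.2, hxO⟩⟩
  have hU₁ : U₁ ≤ W₀ := by
    intro x hx
    obtain ⟨A, hxA, ⟨e⟩⟩ := hL ⟨x, hx⟩
    refine ⟨U₁.ι ''ᵁ A, ⟨⟨x, hx⟩, hxA, rfl⟩, (U₁.ι_image_le A).trans inf_le_left, ⟨?_⟩⟩
    exact H11Tilde.restrictImageIso U₁.ι P A ≪≫
      (Scheme.Modules.restrictFunctor (U₁.ι.isoImage A).inv).mapIso
        ((Scheme.Modules.restrictFunctor A.ι).mapIso (restrictPushIso U₁.ι L) ≪≫ e) ≪≫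
      Scheme.Modules.restrictUnitIso _
  have hW₀inv : PicF.IsInvertible (P.restrict W₀.ι) := by
    rintro ⟨x, O, hxO, hOV, ⟨e⟩⟩
    exact ⟨W₀.ι ⁻¹ᵁ O, hxO, H11Tilde.restrict_restrict_trivial
      (fun y hy => (show Good y from ⟨O, hy, hOV, ⟨e⟩⟩)) P e⟩
  have hall : ∀ x ∈ V, Good x := by
    by_contra hcon
    push Not at hcon
    obtain ⟨x₀, hx₀V, hx₀⟩ := hcon
    obtain ⟨O, hO, hxO, hOV'⟩ := exists_isAffineOpen_mem_and_subset (X := X) (x := x₀) (U := V) hx₀V
    have hOV : O ≤ V := hOV'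
    haveI : IsNoetherianRing Γ(X, O) := IsLocallyNoetherian.component_noetherian ⟨O, hO⟩
    let g : Spec Γ(X, O) ⟶ X := hO.fromSpec
    let W : (Spec Γ(X, O)).Opens := g ⁻¹ᵁ W₀
    obtain ⟨J, hJ⟩ := (PrimeSpectrum.isClosed_iff_zeroLocus_ideal _).mp W.2.isClosed_compl
    have hq₀ : hO.primeIdealOf ⟨x₀, hxO⟩ ∈ PrimeSpectrum.zeroLocus (J : Set Γ(X, O)) := by
      rw [← hJ]
      intro hc
      change g (hO.primeIdealOf ⟨x₀, hxO⟩) ∈ W₀ at hc
      rw [hO.fromSpec_primeIdealOf] at hc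
      exact hx₀ hc
    obtain ⟨p', hp'min, -⟩ := Ideal.exists_minimalPrimes_le (I := J) (J := (hO.primeIdealOf ⟨x₀, hxO⟩).asIdeal) hq₀
    let p : PrimeSpectrum Γ(X, O) := ⟨p', hp'min.1.1⟩
    have hpW : p ∉ W := by
      exact hJ.symm.subset (show p ∈ PrimeSpectrum.zeroLocus (J : Set Γ(X, O)) from hp'min.1.2)
    have hgen : ∀ q : PrimeSpectrum Γ(X, O), q.asIdeal ≤ p.asIdeal → q ≠ p → (q : (Spec Γ(X, O) : Scheme.{u})) ∈ W := by
      intro q hqp hne
      by_contra hqW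
      have hq : q ∈ PrimeSpectrum.zeroLocus (J : Set Γ(X, O)) := hJ.subset hqW
      exact hne (PrimeSpectrum.ext (le_antisymm hqp (hp'min.2 ⟨q.2, hq⟩ hqp)))
    have hyO : g p ∈ O := hO.range_fromSpec.subset ⟨p, rfl⟩
    have hyU : g p ∉ U := fun hU => hpW (hU₁ ⟨hOV hyO, hU⟩)
    have hpeq : hO.primeIdealOf ⟨g p, hyO⟩ = p :=
      hO.fromSpec.isOpenEmbedding.injective (hO.fromSpec_primeIdealOf ⟨g p, hyO⟩)
    obtain ⟨hb, hpic⟩ := isParafactorialLocalRing_iff.mp (h _ hyU)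
    have hWi : PicF.IsInvertible ((P.restrict g).restrict W.ι) := by
      have hW' : g ∣_ W₀ ≫ W₀.ι = W.ι ≫ g := morphismRestrict_ι g W₀
      exact H11Tilde.isInvertible_of_iso
        ((restrictCompIso (g ∣_ W₀) W₀.ι (W.ι ≫ g) hW' P).symm ≪≫ (Scheme.Modules.restrictFunctorComp W.ι g).app P)
        (isInvertible_restrict (g ∣_ W₀) hW₀inv)
    obtain ⟨c, hc, ⟨e⟩⟩ := exists_nhd_trivial (X.presheaf.germ O (g p) hyO) p
      ((hO.primeIdealOf_eq_map_closedPoint ⟨g p, hyO⟩).symm.trans hpeq)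
      (by
        have hl := hO.isLocalization_stalk ⟨g p, hyO⟩
        rw [hpeq] at hl
        exact hl)
      (bijective_punctured_iff.mp hb) hpic hgen hpW _ hWi
    let T : (Spec Γ(X, O)).Opens := H11Tilde.Db (R := Γ(X, O)) c
    let k : ((T ⊓ W : (Spec Γ(X, O)).Opens) : Scheme.{u}) ⟶ (T : Scheme.{u}) :=
      (Spec Γ(X, O)).homOfLE (inf_le_left : T ⊓ W ≤ T)
    have hk : k.opensRange = T.ι ⁻¹ᵁ W := by
      rw [opensRange_homOfLE, Scheme.Hom.preimage_inf,
        show T.ι ⁻¹ᵁ T = ⊤ by ext ⟨x, hx⟩; exact iff_of_true hx trivial, top_inf_eq]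
    have hle : g ⁻¹ᵁ U ≤ W := by
      intro q hq
      exact hU₁ ⟨hOV (hO.range_fromSpec.subset ⟨q, rfl⟩), hq⟩
    let PT : (T : Scheme.{u}).Modules := (P.restrict g).restrict T.ι
    have hPT : SecBij k.opensRange PT := hk ▸ SecBij.restrict T.ι (SecBij.mono hle (hP.restrict g))
    have hOT : SecBij k.opensRange (Coh.structureModule (T : Scheme.{u})) :=
      hk ▸ FunBij.restrict T.ι (SecBij.mono hle (hf.restrict g))
    let ek : PT.restrict k ≅ (Coh.structureModule (T : Scheme.{u})).restrict k :=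
      (restrictCompIso k T.ι (T ⊓ W).ι (Scheme.homOfLE_ι _ _) (P.restrict g)).symm ≪≫
        restrictCompIso ((Spec Γ(X, O)).homOfLE (inf_le_right : T ⊓ W ≤ W)) W.ι (T ⊓ W).ι
          (Scheme.homOfLE_ι _ _) (P.restrict g) ≪≫ e ≪≫ (Scheme.Modules.restrictUnitIso k).symm
    obtain ⟨e1⟩ := nonempty_iso_pushforward k hPT ek
    obtain ⟨e2⟩ := nonempty_iso_pushforward k hOT (Iso.refl _)
    let eT : PT ≅ Coh.structureModule _ := e1 ≪≫ e2.symm
    apply hpW
    refine ⟨g ''ᵁ T, ⟨p, hc, rfl⟩, ?_, ⟨H11Tilde.restrictImageIso g P T ≪≫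
      (Scheme.Modules.restrictFunctor (g.isoImage T).inv).mapIso eT ≪≫ Scheme.Modules.restrictUnitIso _⟩⟩
    rintro _ ⟨q, -, rfl⟩
    exact hOV (hO.range_fromSpec.subset ⟨q, rfl⟩)
  -- conclusion
  let j : ((V ⊓ U : X.Opens) : Scheme.{u}) ⟶ (V : Scheme.{u}) := X.homOfLE (inf_le_left : V ⊓ U ≤ V)
  have hPV : PicF.IsInvertible (P.restrict V.ι) := by
    intro x
    obtain ⟨O, hxO, hOV, ⟨e⟩⟩ := hall x.1 x.2
    exact ⟨V.ι ⁻¹ᵁ O, hxO, H11Tilde.restrict_restrict_trivial hOV P e⟩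
  have hj : j.opensRange = V.ι ⁻¹ᵁ U := by
    rw [opensRange_homOfLE, Scheme.Hom.preimage_inf, show V.ι ⁻¹ᵁ V = ⊤ by ext ⟨x, hx⟩; exact iff_of_true hx trivial,
      top_inf_eq]
  obtain ⟨e⟩ := nonempty_iso_pushforward j (L := P.restrict V.ι)
    (hj ▸ secBij_of_isInvertible (FunBij.restrict V.ι hf) hPV)
    ((restrictCompIso j V.ι U₁.ι (Scheme.homOfLE_ι _ _) P).symm ≪≫ restrictPushIso U₁.ι L)
  exact H11Tilde.isInvertible_of_iso e hPV

/-- A pair is parafactorial iff its local rings are. -/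
theorem pair_iff_stalks [IsLocallyNoetherian X] (Y : Closeds X) :
    ParaF.IsParafactorialPair X Y ↔ ∀ y : X, y ∈ Y → ParaF.IsParafactorialLocalRing (X.presheaf.stalk y) := by
  rw [pair_iff]
  constructor
  · rintro ⟨hf, he⟩ y hy
    exact isParafactorialLocalRing_stalk hf he fun h => h hy
  · intro h
    have h' : ∀ x : X, x ∉ Y.compl → ParaF.IsParafactorialLocalRing (X.presheaf.stalk x) := fun x hx => h x (not_not.mp hx)
    exact ⟨funBij_of_depth _ fun x hx => bijective_punctured_iff.mp (isParafactorialLocalRing_iff.mp (h' x hx)).1,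
      extProp_of_stalks h'⟩

end Groth.Agent.H23Para
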