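import Groth.Agent.H23Para.DepthFun
import Groth.Agent.H11Tilde.AffineInvertible
import Groth.Agent.H11Tilde.Local

/-!
# Ideals invertible on a punctured spectrum with trivial Picard group
-/

set_option autoImplicit false
set_option linter.style.haveILetI false

noncomputable section

universe u

open CategoryTheory CategoryTheory.Limits AlgebraicGeometry Opposite TopologicalSpace
open Groth.Agent.H11Tilde

namespace Groth.Agent.H23Para

/-- A trivialisation yields a section generating freely below. -/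
theorem exists_bijective_smul {X : Scheme.{u}} (L : X.Modules) (U : X.Opens)
    (e : L.restrict U.ι ≅ Coh.structureModule (U : Scheme.{u})) :
    ∃ s : Γ(L, U), ∀ (V : X.Opens) (hV : V ≤ U),
      Function.Bijective fun r : Γ(X, V) => r • L.presheaf.map (homOfLE hV).op s := by
  have hU : U.ι ''ᵁ ⊤ = U := U.ι_image_top
  let g : Γ(L, U.ι ''ᵁ ⊤) := e.inv.app ⊤ (1 : Γ((U : Scheme.{u}), ⊤))
  refine ⟨L.presheaf.map (homOfLE hU.ge).op g, fun V hV => ?_⟩
  obtain ⟨W, rfl⟩ : ∃ W : (U : Scheme.{u}).Opens, V = U.ι ''ᵁ W := ⟨U.ι ⁻¹ᵁ V, by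
    rw [Scheme.Hom.image_preimage_eq_opensRange_inf, Scheme.Opens.opensRange_ι, inf_eq_right.mpr hV]⟩
  have hb : Function.Bijective (fun r : Γ((U : Scheme.{u}), W) =>
      (U.ι.appIso W).inv r • L.presheaf.map (homOfLE (Scheme.Hom.image_mono U.ι (le_top : W ≤ ⊤))).op g) := by
    refine Eq.mpr (congrArg Function.Bijective (funext fun r => ?_))
      (ConcreteCategory.bijective_of_isIso (e.inv.app W))
    have h1 : e.inv.app W (r • (Coh.structureModule (U : Scheme.{u})).presheaf.map (homOfLE le_top).op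
        (1 : Γ((U : Scheme.{u}), ⊤))) = r • e.inv.app W ((Coh.structureModule (U : Scheme.{u})).presheaf.map
          (homOfLE le_top).op (1 : Γ((U : Scheme.{u}), ⊤))) := Scheme.Modules.Hom.app_smul _ _ _
    have h2 := app_map_apply e.inv (le_top : W ≤ ⊤) (1 : Γ((U : Scheme.{u}), ⊤))
    rw [h2] at h1
    refine Eq.trans h1.symm (congrArg _ ?_)
    exact (congrArg (r * ·) (map_one ((U : Scheme.{u}).presheaf.map (homOfLE (le_top : W ≤ ⊤)).op).hom)).trans (mul_one r)
  have hb' := hb.comp (ConcreteCategory.bijective_of_isIso (U.ι.appIso W).hom)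
  refine Eq.mpr (congrArg Function.Bijective (funext fun r => ?_)) hb'
  rw [H10Coh.mres_mres]
  exact congrArg (· • _) (Iso.hom_inv_id_apply (U.ι.appIso W) r).symm

theorem dvd_of_dvd_pow_mul {R : Type u} [CommRing R] {x y : R} (hx : IsSMulRegular R x)
    (hy : ∀ a, x ∣ y * a → x ∣ a) : ∀ (i : ℕ) (c : R) (j : ℕ), x ^ i ∣ y ^ j * c → x ^ i ∣ c := by
  have hypow : ∀ (j : ℕ) (c : R), x ∣ y ^ j * c → x ∣ c := by
    intro j
    induction j with
    | zero => simp
    | succ j ih => exact fun c hc => ih c (hy _ (by rwa [pow_succ', mul_assoc] at hc))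
  intro i
  induction i with
  | zero => simp
  | succ i ih =>
    intro c j hc
    obtain ⟨c', rfl⟩ := hypow j c (dvd_trans (dvd_pow_self x (Nat.succ_ne_zero i)) hc)
    obtain ⟨e, he⟩ := hc
    rw [pow_succ']
    refine mul_dvd_mul_left x (ih c' j ⟨e, hx ?_⟩)
    simp only [smul_eq_mul]
    linear_combination he

variable {R : CommRingCat.{u}} [IsLocalRing R] [IsNoetherianRing R] [IsDomain R]

/-- An ideal which is locally principal off the closed point is a multiple of an ideal supported there. -/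
theorem exists_mul_of_locallyPrincipal (hd : (2 : ℕ∞) ≤ LocCoh.depth R R)
    (hpic : ParaF.PicTrivial (FEt.puncturedSpec R : Scheme.{u})) (Q : Ideal R) (hQ0 : Q ≠ ⊥)
    (hQ : ∀ z : PrimeSpectrum R, z ≠ IsLocalRing.closedPoint R →
      ∃ f ∉ z.asIdeal, ∃ a ∈ Q, ∀ q ∈ Q, a ∣ f * q) :
    ∃ (k : R) (δ : Q →ₗ[R] R), (∀ q : Q, (q : R) = k * δ q) ∧
      ∀ p : PrimeSpectrum R, p ≠ IsLocalRing.closedPoint R → ∃ q : Q, δ q ∉ p.asIdeal := by
  let U : (Spec R).Opens := FEt.puncturedSpec R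
  let M : ModuleCat R := ModuleCat.of R Q
  let L : (Spec R).Modules := tilde M
  let e₀ : M →ₗ[R] Γ(L, ⊤) := (tilde.toOpen M ⊤).hom
  let top : Q → Γ(L, ⊤) := fun q => e₀ q
  have he₀ : Function.Bijective e₀ := ConcreteCategory.bijective_of_isIso (tilde.isoTop M).hom
  let E := LinearEquiv.ofBijective e₀ he₀
  have hgen : ∀ z : PrimeSpectrum R, z ≠ IsLocalRing.closedPoint R →
      ∃ (f : R) (a : Q), f ∈ IsLocalRing.maximalIdeal R ∧ f ∉ z.asIdeal ∧ GenOn f a := by
    intro z hz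
    obtain ⟨f, hf, a, ha, hdvd⟩ := hQ z hz
    obtain ⟨g, hg, hgz⟩ : ∃ g ∈ IsLocalRing.maximalIdeal R, g ∉ z.asIdeal := by
      by_contra hcon
      push Not at hcon
      exact hz (PrimeSpectrum.ext (((IsLocalRing.maximalIdeal.isMaximal R).eq_of_le z.isPrime.ne_top hcon).symm))
    refine ⟨g * f, ⟨a, ha⟩, Ideal.mul_mem_right _ _ hg, z.isPrime.mul_notMem hgz hf, ?_, ?_⟩
    · intro q
      obtain ⟨c, hc⟩ := hdvd q.1 q.2
      exact ⟨1, g * c, Subtype.ext (by simp only [pow_one, SetLike.val_smul, smul_eq_mul]; linear_combination g * hc)⟩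
    · intro r hr
      refine ⟨0, ?_⟩
      have hr' : r * a = 0 := congrArg Subtype.val hr
      have ha0 : a ≠ 0 := by
        rintro rfl
        obtain ⟨q, hq, hq0⟩ := Submodule.exists_mem_ne_zero_of_ne_bot hQ0
        obtain ⟨c, hc⟩ := hdvd q hq
        rw [zero_mul] at hc
        exact hf ((mul_eq_zero.mp hc).resolve_right hq0 ▸ zero_mem _)
      simpa [ha0] using hr'
  have hbU : ∀ g ∈ IsLocalRing.maximalIdeal R, Db (R := R) g ≤ U := fun g hg p hp hpe =>
    hp ((hpe : p = _) ▸ hg)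
  have hinv : PicF.IsInvertible (L.restrict U.ι) := by
    intro x
    obtain ⟨f, a, hfm, hf, hfa⟩ := hgen x.1 x.2
    have hg := isGen_of_genOn L (hfa.map_equiv E)
    obtain ⟨e⟩ := Groth.Agent.H11Tilde.nonempty_iso_structureModule L (Db (R := R) f) _ fun V hV => hg.bijective hV
    exact ⟨U.ι ⁻¹ᵁ Db (R := R) f, hf, restrict_restrict_trivial (hbU f hfm) L e⟩
  obtain ⟨e⟩ := hpic _ hinv
  obtain ⟨s, hs⟩ := exists_bijective_smul L U e
  have hcst : Function.Bijective (cst R U) :=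
    (bijective_punctured_iff.mpr hd).comp (ConcreteCategory.bijective_of_isIso (Scheme.ΓSpecIso R).inv)
  have hb : Function.Bijective (fun r : R => r • s) := by
    have := (hs U le_rfl).comp hcst
    refine Eq.mpr (congrArg Function.Bijective (funext fun r => ?_)) this
    simp only [Function.comp_apply]
    rw [H10Coh.mres_self]
    exact smul_eq_cst_smul L U r s
  let res : M →ₗ[R] Γ(L, U) :=
    { toFun := fun q => L.presheaf.map (homOfLE (le_top : U ≤ ⊤)).op (top q)
      map_add' := fun a b => by simp [top]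
      map_smul' := fun r a => by
        show L.presheaf.map _ (e₀ (r • a)) = r • L.presheaf.map _ (e₀ a)
        rw [map_smul]
        exact res_smul_Spec L le_top r (e₀ a) }
  let δ : Q →ₗ[R] R := ((LinearEquiv.ofBijective (LinearMap.toSpanSingleton R Γ(L, U) s) hb).symm.toLinearMap ∘ₗ res : M →ₗ[R] R)
  have hδ : ∀ q : M, (δ q : R) • s = res q := fun q =>
    (LinearEquiv.ofBijective (LinearMap.toSpanSingleton R Γ(L, U) s) hb).apply_symm_apply (res q)
  have hsym : ∀ q q' : Q, (q : R) * δ q' = (q' : R) * δ q := fun q q' => by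
    rw [← smul_eq_mul, ← smul_eq_mul, ← map_smul, ← map_smul]
    congr 1
    exact Subtype.ext (mul_comm (q : R) q')
  have hunit : ∀ p : PrimeSpectrum R, p ≠ IsLocalRing.closedPoint R → ∃ q : Q, δ q ∉ p.asIdeal := by
    intro p hp
    obtain ⟨f, a, hfm, hf, hfa⟩ := hgen p hp
    refine ⟨a, fun hmem => ?_⟩
    have hV : Db (R := R) f ≤ U := hbU f hfm
    have hg := isGen_of_genOn L (hfa.map_equiv E)
    obtain ⟨w, hw⟩ := (hg.bijective le_rfl).2 (L.presheaf.map (homOfLE hV).op s)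
    have h1 := congrArg (L.presheaf.map (homOfLE hV).op) (hδ a)
    rw [res_smul_Spec] at h1
    have h2 : L.presheaf.map (homOfLE hV).op (res a) =
        L.presheaf.map (homOfLE (le_top : Db (R := R) f ≤ ⊤)).op (E a) := H10Coh.mres_mres _ _ _ _
    beta_reduce at hw
    rw [H10Coh.mres_self, ← h2, ← h1, smul_eq_cst_smul, smul_smul] at hw
    have h3 : w * cst R (Db (R := R) f) (δ a) = 1 := by
      refine (hs _ hV).1 ?_
      beta_reduce
      rw [hw, one_smul]
    have h4 := congrArg ((Spec R).presheaf.germ (Db (R := R) f) p hf) h3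
    rw [map_mul, map_one] at h4
    have h5 : IsUnit ((Spec R).presheaf.germ (Db (R := R) f) p hf (cst R (Db (R := R) f) (δ a))) :=
      isUnit_of_dvd_one ⟨_, by rw [mul_comm, h4]⟩
    have h5' := (Scheme.mem_basicOpen (Spec R) (cst R (Db (R := R) f) (δ a)) (p : (Spec R : Scheme.{u})) hf).mpr h5
    have h6 : p ∈ (Spec R).basicOpen ((Scheme.ΓSpecIso R).inv (δ a)) := by
      have := (Scheme.basicOpen_res (Spec R) ((Scheme.ΓSpecIso R).inv (δ a))
        (homOfLE (le_top : Db (R := R) f ≤ ⊤)).op).le h5'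
      exact this.2
    rw [basicOpen_eq_of_affine] at h6
    exact h6 hmem
  let J : Ideal R := LinearMap.range δ
  have hrad : IsLocalRing.maximalIdeal R ≤ J.radical := by
    rw [Ideal.radical_eq_sInf]
    refine le_sInf fun P hP => ?_
    by_contra hne
    obtain ⟨q, hq⟩ := hunit ⟨P, hP.2⟩ fun h => hne (congrArg PrimeSpectrum.asIdeal h).ge
    exact hq (hP.1 ⟨q, rfl⟩)
  have htop : IsLocalRing.maximalIdeal R • (⊤ : Submodule R R) ≠ ⊤ := H4Depth.maximalIdeal_smul_top_ne_top
  obtain ⟨rs, hlen, hmem, hreg⟩ := H4Depth.exists_isWeaklyRegular_of_le_idealDepth (n := 2) htop hd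
  obtain ⟨x, y, rfl⟩ := List.length_eq_two.mp hlen
  obtain ⟨hx, hreg'⟩ := (RingTheory.Sequence.isWeaklyRegular_cons_iff _ _ _).mp hreg
  obtain ⟨hy, -⟩ := (RingTheory.Sequence.isWeaklyRegular_cons_iff _ _ _).mp hreg'
  have hy' : ∀ a, x ∣ y * a → x ∣ a := by
    intro a ha
    have h0 : ∀ z : R, (Submodule.Quotient.mk z : QuotSMulTop x R) = 0 ↔ x ∣ z := fun z => by
      rw [Submodule.Quotient.mk_eq_zero]
      exact ⟨fun ⟨c, _, hc⟩ => ⟨c, hc.symm⟩, fun ⟨c, hc⟩ => ⟨c, trivial, hc.symm⟩⟩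
    refine (h0 a).mp (hy.right_eq_zero_of_smul ?_)
    rw [← Submodule.Quotient.mk_smul]
    exact (h0 _).mpr ha
  obtain ⟨n, q₁, hq₁⟩ := hrad (hmem x (by simp))
  obtain ⟨m, q₂, hq₂⟩ := hrad (hmem y (by simp))
  obtain ⟨k, hk⟩ := dvd_of_dvd_pow_mul hx hy' n (q₁ : R) m ⟨q₂, by
    rw [← hq₁, ← hq₂, mul_comm (δ q₂), hsym, mul_comm]⟩
  refine ⟨k, δ, fun q => ?_, hunit⟩
  have hx0 : x ^ n ≠ 0 := pow_ne_zero _ fun h => by
    subst h
    exact one_ne_zero (hx (show (0 : R) • (1 : R) = 0 • 0 by simp))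
  refine mul_left_cancel₀ hx0 ?_
  rw [← mul_assoc, ← hk, hsym, hq₁]
  ring

end Groth.Agent.H23Para
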