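import Groth.Agent.H23Para.FlatDescent

/-!
# The counit of pullback and pushforward after a flat base change
-/

set_option autoImplicit false
set_option linter.style.haveILetI false

noncomputable section

universe u

open CategoryTheory CategoryTheory.Limits AlgebraicGeometry Opposite TopologicalSpace

namespace Groth.Agent.H23Para

section Mates

universe v₁ v₂ v₃ v₄ w₁ w₂ w₃ w₄

variable {C : Type w₁} [Category.{v₁} C] {D : Type w₂} [Category.{v₂} D] {C' : Type w₃} [Category.{v₃} C']
  {D' : Type w₄} [Category.{v₄} D'] {F : C ⥤ D} {P : D ⥤ C} {F' : C' ⥤ D'} {P' : D' ⥤ C'}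
  {G : C ⥤ C'} {Q : C' ⥤ C} {G' : D ⥤ D'} {Q' : D' ⥤ D}
  (aF : F ⊣ P) (aF' : F' ⊣ P') (aG : G ⊣ Q) (aG' : G' ⊣ Q') (Φ : Q' ⋙ P ≅ P' ⋙ Q)

/-- If the base change map at `M` is invertible, the counit at `M` becomes invertible after base change
exactly when the counit at the base change of `M` is. -/
theorem isIso_map_counit_iff (M : D)
    (h : IsIso ((aG.homEquiv _ _).symm (P.map (aG'.unit.app M) ≫ Φ.hom.app (G'.obj M)))) :
    IsIso (G'.map (aF.counit.app M)) ↔ IsIso (aF'.counit.app (G'.obj M)) := by
  let a'' := (aF.comp aG').ofNatIsoRight Φ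
  let u := ((aG.comp aF').leftAdjointUniq a'').app (P.obj M)
  let β := (aG.homEquiv _ _).symm (P.map (aG'.unit.app M) ≫ Φ.hom.app (G'.obj M))
  haveI : IsIso β := h
  have key : u.hom ≫ G'.map (aF.counit.app M) = F'.map β ≫ aF'.counit.app (G'.obj M) := by
    apply ((aG.comp aF').homEquiv _ _).injective
    have e1 : (aG.comp aF').homEquiv _ _ (u.hom ≫ G'.map (aF.counit.app M)) =
        a''.unit.app (P.obj M) ≫ (P' ⋙ Q).map (G'.map (aF.counit.app M)) := by
      rw [Adjunction.homEquiv_unit, Functor.map_comp, ← Category.assoc]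
      refine congrArg (· ≫ _) ?_
      exact Adjunction.unit_leftAdjointUniq_hom_app _ a'' (P.obj M)
    have e2 : (aG.comp aF').homEquiv _ _ (F'.map β ≫ aF'.counit.app (G'.obj M)) =
        P.map (aG'.unit.app M) ≫ Φ.hom.app (G'.obj M) := by
      rw [Adjunction.comp_homEquiv]
      show aG.homEquiv _ _ (aF'.homEquiv _ _ (F'.map β ≫ aF'.counit.app (G'.obj M))) = _
      refine (congrArg (aG.homEquiv _ _) ((congrArg (aF'.homEquiv _ _) (aF'.homEquiv_counit _ _ β).symm).trans
        (Equiv.apply_symm_apply _ β))).trans ?_
      exact Equiv.apply_symm_apply _ _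
    have e3 : a''.unit.app (P.obj M) =
        (aF.comp aG').unit.app (P.obj M) ≫ Φ.hom.app (G'.obj (F.obj (P.obj M))) := by
      simp [a'', Adjunction.ofNatIsoRight, ← Adjunction.homEquiv_id]
    refine e1.trans (Eq.trans ?_ e2.symm)
    rw [e3, Category.assoc]
    refine (congrArg (_ ≫ ·) (Φ.hom.naturality _).symm).trans ?_
    rw [← Category.assoc]
    refine congrArg (· ≫ _) ?_
    simp only [Adjunction.comp_unit_app, Functor.comp_map, Category.assoc, ← P.map_comp]
    rw [aG'.unit_naturality, P.map_comp, aF.right_triangle_components_assoc]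
    rfl
  constructor
  · intro _
    haveI : IsIso (F'.map β ≫ aF'.counit.app (G'.obj M)) := key ▸ inferInstance
    exact IsIso.of_isIso_comp_left (F'.map β) _
  · intro _
    haveI : IsIso (u.hom ≫ G'.map (aF.counit.app M)) := key.symm ▸ inferInstance
    exact IsIso.of_isIso_comp_left u.hom _

theorem isIso_counit_app_iff_of_iso {M N : D} (e : M ≅ N) :
    IsIso (aF.counit.app M) ↔ IsIso (aF.counit.app N) :=
  NatTrans.isIso_app_iff_of_iso aF.counit e

end Mates

variable {X Y Y' : Scheme.{u}} (f : X ⟶ Y) (hf : ∀ V : Y.Opens, Function.Bijective (f.app V))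

/-- The comparison map of structure sheaves. -/
abbrev unitHom : Coh.structureModule Y ⟶ (Scheme.Modules.pushforward f).obj (Coh.structureModule X) :=
  SheafOfModules.unitToPushforwardObjUnit.{u} f.toRingCatSheafHom

include hf in
theorem isIso_unitHom_of_bijective : IsIso (unitHom f) :=
  Scheme.Modules.Hom.isIso_iff_isIso_app.mpr fun V => (ConcreteCategory.isIso_iff_bijective _).2 (hf V)

include hf in
theorem isIso_counit_structureModule :
    IsIso ((Scheme.Modules.pullbackPushforwardAdjunction f).counit.app (Coh.structureModule X)) := by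
  haveI := isIso_unitHom_of_bijective f hf
  haveI : IsIso (((Scheme.Modules.pullbackPushforwardAdjunction f).homEquiv _ _).symm (unitHom f)) :=
    inferInstanceAs (IsIso (H16Derived.KFlat.Stalk.structurePullbackIso f).hom)
  rw [Adjunction.homEquiv_counit] at this
  exact IsIso.of_isIso_comp_left ((Scheme.Modules.pullback f).map (unitHom f)) _

variable [QuasiCompact f] [QuasiSeparated f] (g : Y' ⟶ Y) [Flat g]

/-- Flat base change for direct images. -/
theorem nonempty_pullback_pushforward (M : X.Modules) [Coh.IsQCoh M] :
    Nonempty ((Scheme.Modules.pullback g).obj ((Scheme.Modules.pushforward f).obj M) ≅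
      (Scheme.Modules.pushforward (pullback.snd f g)).obj ((Scheme.Modules.pullback (pullback.fst f g)).obj M)) := by
  haveI : HasInjectiveResolutions X.Modules := by
    haveI := H10Coh.enoughInjMod X; infer_instance
  haveI : HasInjectiveResolutions (pullback f g).Modules := by
    haveI := H10Coh.enoughInjMod (pullback f g); infer_instance
  haveI : (Scheme.Modules.pushforward f).IsRightAdjoint :=
    (Scheme.Modules.pullbackPushforwardAdjunction f).isRightAdjoint
  haveI : (Scheme.Modules.pushforward (pullback.snd f g)).IsRightAdjoint :=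
    (Scheme.Modules.pullbackPushforwardAdjunction (pullback.snd f g)).isRightAdjoint
  obtain ⟨e⟩ := Groth.Agent.S0033.result f g (pullback.fst f g) (pullback.snd f g)
    (IsPullback.of_hasPullback f g) M 0
  exact ⟨(Scheme.Modules.pullback g).mapIso ((Scheme.Modules.pushforward f).rightDerivedZeroIsoSelf.app M).symm ≪≫
    e ≪≫ (Scheme.Modules.pushforward (pullback.snd f g)).rightDerivedZeroIsoSelf.app _⟩

/-- The base change map for direct images is invertible. -/
theorem isIso_baseChange (M : X.Modules) [Coh.IsQCoh M] :
    IsIso (((Scheme.Modules.pullbackPushforwardAdjunction g).homEquiv _ _).symm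
      ((Scheme.Modules.pushforward f).map
          ((Scheme.Modules.pullbackPushforwardAdjunction (pullback.fst f g)).unit.app M) ≫
        (Scheme.Modules.pushforwardComp (pullback.fst f g) f ≪≫
          Scheme.Modules.pushforwardCongr (IsPullback.of_hasPullback f g).w ≪≫
          (Scheme.Modules.pushforwardComp (pullback.snd f g) g).symm).hom.app
            ((Scheme.Modules.pullback (pullback.fst f g)).obj M))) := by
  have h := IsPullback.of_hasPullback f g
  haveI : Flat (pullback.fst f g) := inferInstance
  haveI : M.IsQuasicoherent := ‹Coh.IsQCoh M›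
  haveI := H10Coh.enoughInjMod X
  haveI := H10Coh.enoughInjMod (pullback f g)
  haveI : ∀ k, Injective ((H10Coh.MRes.inj ((Scheme.Modules.pullback (pullback.fst f g)).obj M)).I k) :=
    fun k => H10Coh.injective_mI _ k
  have hN : ((Scheme.Modules.pushforward f).obj M).IsQuasicoherent :=
    H10Coh.isQuasicoherent_pushforward f M
  have := H10Coh.FBC.isIso_transpose g (N := (Scheme.Modules.pushforward f).obj M) hN
    (H10Coh.FBC.τPush h (H10Coh.FBC.α₀ (g' := pullback.fst f g) M (H10Coh.MRes.inj M)
      (H10Coh.MRes.inj ((Scheme.Modules.pullback (pullback.fst f g)).obj M)) rfl rfl))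
    (fun V V' hV hV' hle => H10Coh.FBC.bijective_locLin_zero h
      (H10Coh.FBC.gres (g' := pullback.fst f g) (H10Coh.MRes.inj M)
        (H10Coh.MRes.inj ((Scheme.Modules.pullback (pullback.fst f g)).obj M)) M rfl rfl)
      ‹Coh.IsQCoh M› hle hV hV')
  have hα : H10Coh.FBC.α₀ (g' := pullback.fst f g) M (H10Coh.MRes.inj M)
      (H10Coh.MRes.inj ((Scheme.Modules.pullback (pullback.fst f g)).obj M)) rfl rfl =
      (Scheme.Modules.pullbackPushforwardAdjunction (pullback.fst f g)).unit.app M :=
    (Category.id_comp _).trans ((congrArg (_ ≫ ·) ((Scheme.Modules.pushforward (pullback.fst f g)).map_id _)).trans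
      (Category.comp_id _))
  rw [hα] at this
  exact this

variable [Surjective g] [QuasiCompact g]

include hf in
/-- An invertible module trivialised by a faithfully flat base change comes from the base. -/
theorem invertible_and_counit_of_trivial (L : X.Modules) (hL : PicF.IsInvertible L)
    (htriv : Nonempty ((Scheme.Modules.pullback (pullback.fst f g)).obj L ≅ Coh.structureModule (pullback f g))) :
    PicF.IsInvertible ((Scheme.Modules.pushforward f).obj L) ∧
      IsIso ((Scheme.Modules.pullbackPushforwardAdjunction f).counit.app L) ∧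
      Nonempty ((Scheme.Modules.pullback g).obj ((Scheme.Modules.pushforward f).obj L) ≅
        Coh.structureModule Y') := by
  obtain ⟨t⟩ := htriv
  let O := Coh.structureModule X
  haveI : Coh.IsQCoh L := H28Mero.isQCoh_of_isInvertible hL
  haveI : Coh.IsQCoh O := H28Mero.isQCoh_of_isInvertible isInvertible_structureModule
  haveI : L.IsQuasicoherent := ‹Coh.IsQCoh L›
  haveI := H10Coh.isQuasicoherent_pushforward f L
  haveI := isIso_unitHom_of_bijective f hf
  let t' : (Scheme.Modules.pullback (pullback.fst f g)).obj O ≅
      (Scheme.Modules.pullback (pullback.fst f g)).obj L :=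
    H16Derived.KFlat.Stalk.structurePullbackIso (pullback.fst f g) ≪≫ t.symm
  obtain ⟨bL⟩ := nonempty_pullback_pushforward f g L
  obtain ⟨bO⟩ := nonempty_pullback_pushforward f g O
  let e := bL ≪≫ (Scheme.Modules.pushforward (pullback.snd f g)).mapIso t'.symm ≪≫ bO.symm ≪≫
    (Scheme.Modules.pullback g).mapIso (asIso (unitHom f)).symm ≪≫
    H16Derived.KFlat.Stalk.structurePullbackIso g
  have hinv : PicF.IsInvertible ((Scheme.Modules.pushforward f).obj L) :=
    isInvertible_of_pullback g _ (H11Tilde.isInvertible_of_iso e.symm isInvertible_structureModule)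
  refine ⟨hinv, ?_, ⟨e⟩⟩
  let Φ := Scheme.Modules.pushforwardComp (pullback.fst f g) f ≪≫
    Scheme.Modules.pushforwardCongr (IsPullback.of_hasPullback f g).w ≪≫
    (Scheme.Modules.pushforwardComp (pullback.snd f g) g).symm
  have hiff := fun (M : X.Modules) (_ : Coh.IsQCoh M) =>
    isIso_map_counit_iff (Scheme.Modules.pullbackPushforwardAdjunction f)
      (Scheme.Modules.pullbackPushforwardAdjunction (pullback.snd f g))
      (Scheme.Modules.pullbackPushforwardAdjunction g)
      (Scheme.Modules.pullbackPushforwardAdjunction (pullback.fst f g)) Φ M (isIso_baseChange f g M)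
  haveI := isIso_counit_structureModule f hf
  have hO := (hiff O ‹_›).mp inferInstance
  haveI := (hiff L ‹_›).mpr ((isIso_counit_app_iff_of_iso
    (Scheme.Modules.pullbackPushforwardAdjunction (pullback.snd f g)) t').mp hO)
  haveI : Flat (pullback.fst f g) := inferInstance
  haveI : Surjective (pullback.fst f g) := inferInstance
  haveI : QuasiCompact (pullback.fst f g) := inferInstance
  exact isIso_of_isIso_pullback (pullback.fst f g) _
    (H28Mero.isQCoh_of_isInvertible (H11Ample.isInvertible_pullback f hinv)) ‹_›

end Groth.Agent.H23Para
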