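import Groth.Agent.H23Para.Functions
import Groth.Agent.H05EGA4.SerreCond

/-!
# Functions on punctured spectra and depth
-/

set_option autoImplicit false
set_option linter.style.haveILetI false

noncomputable section

universe u

open CategoryTheory CategoryTheory.Limits AlgebraicGeometry Opposite TopologicalSpace
open LocCoh

namespace Groth.Agent.H23Para

variable {X : Scheme.{u}}

/-- The ideal of sections of `W` whose non-vanishing locus lies in `U`. -/
def idealOf (U : X.Opens) (W : X.Opens) : Ideal Γ(X, W) where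
  carrier := {f | X.basicOpen f ≤ U}
  zero_mem' := by simp
  add_mem' := fun {f g} hf hg x hx => by
    have hxW : x ∈ W := X.basicOpen_le _ hx
    rw [Scheme.mem_basicOpen _ _ _ hxW, map_add] at hx
    rcases IsLocalRing.isUnit_or_isUnit_of_isUnit_add hx with h | h
    · exact hf ((Scheme.mem_basicOpen _ _ _ hxW).mpr h)
    · exact hg ((Scheme.mem_basicOpen _ _ _ hxW).mpr h)
  smul_mem' := fun a f hf => by
    show X.basicOpen (a * f) ≤ U
    rw [X.basicOpen_mul]
    exact inf_le_right.trans hf

theorem iSup_idealOf {U W : X.Opens} (hW : IsAffineOpen W) :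
    W ⊓ U = ⨆ f : idealOf U W, X.basicOpen f.1 := by
  refine le_antisymm (fun p hp => ?_) (iSup_le fun f => le_inf (X.basicOpen_le f.1) f.2)
  obtain ⟨hpW, hpU⟩ := Opens.mem_inf.mp hp
  obtain ⟨f, hf, hpf⟩ := hW.exists_basicOpen_le ⟨p, hpU⟩ hpW
  exact Opens.mem_iSup.mpr ⟨⟨f, hf⟩, hpf⟩

/-- Functions extend across a closed subset along which the depth is at least two. -/
theorem funBij_of_depth [IsLocallyNoetherian X] (U : X.Opens)
    (h : ∀ x : X, x ∉ U → (2 : ℕ∞) ≤ LocCoh.depth (X.presheaf.stalk x) (X.presheaf.stalk x)) : FunBij U := by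
  refine funBij_of_affines fun W hW => ?_
  haveI : IsNoetherianRing Γ(X, W) := IsLocallyNoetherian.component_noetherian ⟨W, hW⟩
  rw [bijective_map_iff_two_le_idealDepth hW inf_le_left (iSup_idealOf hW),
    H4Depth.idealDepth_eq_iInf_depth_localization]
  refine le_iInf₂ fun p hp => ?_
  let x : X := hW.fromSpec p
  have hxW : x ∈ W := hW.range_fromSpec.subset ⟨p, rfl⟩
  have hxU : x ∉ U := fun hxU => by
    obtain ⟨f, hf, hxf⟩ := hW.exists_basicOpen_le ⟨x, hxU⟩ hxW
    have : p ∈ hW.fromSpec ⁻¹ᵁ X.basicOpen f := hxf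
    rw [hW.fromSpec_preimage_basicOpen] at this
    exact this (hp hf)
  letI := X.presheaf.algebra_section_stalk ⟨x, hxW⟩
  haveI : IsLocalization.AtPrime (X.presheaf.stalk x) p.asIdeal := hW.isLocalization_stalk' p hxW
  let e := IsLocalization.algEquiv p.asIdeal.primeCompl (Localization.AtPrime p.asIdeal) (X.presheaf.stalk x)
  refine (h x hxU).trans_eq ?_
  rw [← H05EGA4.depth_eq_of_ringEquiv e.toRingEquiv]

variable {A : Type u} [CommRing A] [IsLocalRing A] [IsNoetherianRing A]

/-- Functions extend across the closed point iff the depth is at least two. -/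
theorem bijective_punctured_iff :
    Function.Bijective ((Spec (CommRingCat.of A)).presheaf.map
        (homOfLE (le_top : FEt.puncturedSpec A ≤ ⊤)).op) ↔ (2 : ℕ∞) ≤ LocCoh.depth A A := by
  let Y := Spec (CommRingCat.of A)
  let e : A ≃+* Γ(Y, ⊤) := (Scheme.ΓSpecIso (CommRingCat.of A)).commRingCatIsoToRingEquiv.symm
  haveI : IsNoetherianRing Γ(Y, ⊤) := isNoetherianRing_of_ringEquiv A e
  haveI : IsLocalRing Γ(Y, ⊤) := e.isLocalRing
  have hI : idealOf (FEt.puncturedSpec A) ⊤ = IsLocalRing.maximalIdeal Γ(Y, ⊤) := by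
    ext f
    obtain ⟨a, rfl⟩ := e.surjective f
    show Y.basicOpen ((Scheme.ΓSpecIso (CommRingCat.of A)).inv a) ≤ _ ↔ _
    rw [basicOpen_eq_of_affine, IsLocalRing.mem_maximalIdeal, mem_nonunits_iff]
    erw [MulEquiv.isUnit_map e]
    constructor
    · intro h hu
      exact (h (show IsLocalRing.closedPoint A ∈ PrimeSpectrum.basicOpen a from
        fun hm => (IsLocalRing.mem_maximalIdeal a).mp hm hu)) rfl
    · intro hu q hq hqe
      exact hq ((hqe : q = _) ▸ (IsLocalRing.mem_maximalIdeal a).mpr hu)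
  rw [bijective_map_iff_two_le_idealDepth (isAffineOpen_top Y) (I := idealOf (FEt.puncturedSpec A) ⊤) le_top
    ((top_inf_eq _).symm.trans (iSup_idealOf (isAffineOpen_top Y))), hI]
  rw [H05EGA4.depth_eq_of_ringEquiv e]
  exact Iff.rfl

end Groth.Agent.H23Para
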