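import Groth.Agent.H23Para.Restrict
import Groth.Prelude.Def_FEt

/-!
# Parafactorial pairs through direct images
-/

set_option autoImplicit false
set_option linter.style.haveILetI false

noncomputable section

universe u

open CategoryTheory CategoryTheory.Limits AlgebraicGeometry Opposite TopologicalSpace

namespace Groth.Agent.H23Para

variable {X : Scheme.{u}}

theorem isInvertible_restrict {T : Scheme.{u}} (f : T ⟶ X) [IsOpenImmersion f] {L : X.Modules}
    (hL : PicF.IsInvertible L) : PicF.IsInvertible (L.restrict f) := by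
  intro y
  obtain ⟨U, hU, ⟨e⟩⟩ := hL (f y)
  exact ⟨f ⁻¹ᵁ U, hU, ⟨((Scheme.Modules.restrictFunctorComp (f ⁻¹ᵁ U).ι f).app L).symm ≪≫
    (Scheme.Modules.restrictFunctorCongr (morphismRestrict_ι f U).symm).app L ≪≫
    (Scheme.Modules.restrictFunctorComp (f ∣_ U) U.ι).app L ≪≫
    (Scheme.Modules.restrictFunctor (f ∣_ U)).mapIso e ≪≫ Scheme.Modules.restrictUnitIso (f ∣_ U)⟩⟩

theorem isInvertible_structureModule : PicF.IsInvertible (Coh.structureModule X) :=
  fun _ => ⟨⊤, trivial, ⟨Scheme.Modules.restrictUnitIso _⟩⟩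

/-- Invertibility can be checked after restricting along a surjective open immersion. -/
theorem isInvertible_of_surjective {T : Scheme.{u}} (f : T ⟶ X) [IsOpenImmersion f] (hf : f.opensRange = ⊤)
    {L : X.Modules} (h : PicF.IsInvertible (L.restrict f)) : PicF.IsInvertible L :=
  Groth.Agent.H11Tilde.isInvertible_of_openImmersions (fun _ : PUnit.{u + 1} => f)
    (fun x => ⟨⟨⟩, (hf ▸ (trivial : x ∈ (⊤ : X.Opens)) : x ∈ f.opensRange)⟩) L fun _ => h

theorem isInvertible_pushforward_of_surjective {T : Scheme.{u}} (f : T ⟶ X) [IsOpenImmersion f]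
    (hf : f.opensRange = ⊤) {L : T.Modules} (h : PicF.IsInvertible L) :
    PicF.IsInvertible ((Scheme.Modules.pushforward f).obj L) :=
  isInvertible_of_surjective f hf (Groth.Agent.H11Tilde.isInvertible_of_iso (restrictPushIso f L).symm h)

/-- Restrictions of functions to `U` are bijective, on every open. -/
abbrev FunBij (U : X.Opens) : Prop := SecBij U (Coh.structureModule X)

theorem funBij_iff (U : X.Opens) : FunBij U ↔
    ∀ V : X.Opens, Function.Bijective (X.presheaf.map (homOfLE (inf_le_left : V ⊓ U ≤ V)).op) := Iff.rfl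

theorem FunBij.restrict {T : Scheme.{u}} (g : T ⟶ X) [IsOpenImmersion g] {U : X.Opens} (h : FunBij U) :
    FunBij (g ⁻¹ᵁ U) :=
  SecBij.of_iso (Scheme.Modules.restrictUnitIso g) (SecBij.restrict g h)

theorem funBij_of_cover {U : X.Opens} {I : Type*} {T : I → Scheme.{u}} (g : ∀ i, T i ⟶ X)
    [∀ i, IsOpenImmersion (g i)] (hcov : ⨆ i, (g i).opensRange = ⊤) (h : ∀ i, FunBij ((g i) ⁻¹ᵁ U)) : FunBij U :=
  secBij_of_cover (fun i => (g i).opensRange) hcov fun i V hV =>
    bijective_of_restrict (g i) (SecBij.of_iso (Scheme.Modules.restrictUnitIso (g i)).symm (h i)) V hV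

/-- Direct images of invertible modules from `U` are invertible, on every open. -/
def ExtProp (U : X.Opens) : Prop :=
  ∀ ⦃T Z : Scheme.{u}⦄ (g : T ⟶ X) (j : Z ⟶ T) [IsOpenImmersion g] [IsOpenImmersion j],
    j.opensRange = g ⁻¹ᵁ U → ∀ L : Z.Modules, PicF.IsInvertible L →
      PicF.IsInvertible ((Scheme.Modules.pushforward j).obj L)

theorem ExtProp.restrict {W : Scheme.{u}} (f : W ⟶ X) [IsOpenImmersion f] {U : X.Opens} (h : ExtProp U) :
    ExtProp (f ⁻¹ᵁ U) := fun T Z g j _ _ hj L hL =>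
  h (g ≫ f) j (hj.trans (Scheme.Hom.comp_preimage g f U).symm) L hL

/-- It suffices to extend from the opens `V ⊓ U` to the opens `V`. -/
theorem extProp_of_opens {U : X.Opens} (h : ∀ (V : X.Opens) (L : ((V ⊓ U : X.Opens) : Scheme.{u}).Modules),
    PicF.IsInvertible L → PicF.IsInvertible ((Scheme.Modules.pushforward (X.homOfLE (inf_le_left : V ⊓ U ≤ V))).obj L)) :
    ExtProp U := by
  intro T Z g j _ _ hj L hL
  let V := g.opensRange
  let b : T ⟶ (V : Scheme.{u}) := g.isoOpensRange.hom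
  have hb : b ≫ V.ι = g := g.isoOpensRange_hom_ι
  have hr : (j ≫ g).opensRange = V ⊓ U := by
    rw [Scheme.Hom.opensRange_comp, hj, Scheme.Hom.image_preimage_eq_opensRange_inf]
  let a : Z ⟶ ((V ⊓ U : X.Opens) : Scheme.{u}) :=
    (IsOpenImmersion.isoOfRangeEq (j ≫ g) (V ⊓ U).ι (by
      rw [Scheme.Opens.range_ι]; exact congrArg SetLike.coe hr)).hom
  have ha : a ≫ (V ⊓ U).ι = j ≫ g := IsOpenImmersion.isoOfRangeEq_hom_fac _ _ _
  have hfac : j ≫ b = a ≫ X.homOfLE (inf_le_left : V ⊓ U ≤ V) := by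
    rw [← cancel_mono V.ι, Category.assoc, Category.assoc, Scheme.homOfLE_ι, hb, ha]
  have h1 : PicF.IsInvertible ((Scheme.Modules.pushforward (X.homOfLE (inf_le_left : V ⊓ U ≤ V))).obj
      ((Scheme.Modules.pushforward a).obj L)) :=
    h V _ (isInvertible_pushforward_of_surjective a (by
      show (IsOpenImmersion.isoOfRangeEq (j ≫ g) (V ⊓ U).ι _).hom.opensRange = ⊤
      exact Scheme.Hom.opensRange_of_isIso _) hL)
  have h2 : PicF.IsInvertible ((Scheme.Modules.pushforward b).obj ((Scheme.Modules.pushforward j).obj L)) :=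
    Groth.Agent.H11Tilde.isInvertible_of_iso ((Scheme.Modules.pushforwardComp a (X.homOfLE _)).app L ≪≫
      (Scheme.Modules.pushforwardCongr hfac.symm).app L ≪≫ ((Scheme.Modules.pushforwardComp j b).app L).symm) h1
  exact Groth.Agent.H11Tilde.isInvertible_of_iso (restrictPushIso b _) (isInvertible_restrict b h2)

/-- Parafactorial pairs in terms of direct images. -/
theorem pair_iff {Y : Closeds X} : ParaF.IsParafactorialPair X Y ↔ FunBij Y.compl ∧ ExtProp Y.compl := by
  constructor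
  · intro h
    have hfun : FunBij Y.compl := by
      intro V
      have hb := bijective_global (X.homOfLE (inf_le_left : V ⊓ Y.compl ≤ V))
        ((h V).1 _ _ isInvertible_structureModule isInvertible_structureModule)
      change Function.Bijective (X.presheaf.map (V.ι.opensFunctor.map (homOfLE le_top)).op) at hb
      refine (bijective_map_congr (Coh.structureModule X) ?_ ?_ _ _).mp
        (hb : Function.Bijective ((Coh.structureModule X).presheaf.map (homOfLE (Scheme.Hom.image_mono V.ι le_top)).op))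
      · rw [opensRange_homOfLE, Scheme.Hom.image_preimage_eq_opensRange_inf, Scheme.Opens.opensRange_ι,
          ← inf_assoc, inf_idem]
      · exact V.ι_image_top
    refine ⟨hfun, extProp_of_opens fun V L hL => ?_⟩
    obtain ⟨M, hM, ⟨e⟩⟩ := (h V).2 L hL
    obtain ⟨e'⟩ := nonempty_iso_pushforward _ (secBij_of_isInvertible (by
      rw [opensRange_homOfLE, Scheme.Hom.preimage_inf, show V.ι ⁻¹ᵁ V = ⊤ by ext ⟨x, hx⟩; exact iff_of_true hx trivial,
        top_inf_eq]
      exact hfun.restrict V.ι) hM) e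
    exact Groth.Agent.H11Tilde.isInvertible_of_iso e' hM
  · rintro ⟨hf, he⟩ V
    have hr : (X.homOfLE (inf_le_left : V ⊓ Y.compl ≤ V)).opensRange = V.ι ⁻¹ᵁ Y.compl := by
      rw [opensRange_homOfLE, Scheme.Hom.preimage_inf, show V.ι ⁻¹ᵁ V = ⊤ by ext ⟨x, hx⟩; exact iff_of_true hx trivial,
        top_inf_eq]
    refine ⟨fun L L' _ hL' => bijective_restrict_map _ L (secBij_of_isInvertible ?_ hL'), fun L₀ hL₀ =>
      ⟨_, he V.ι _ hr L₀ hL₀, ⟨restrictPushIso _ L₀⟩⟩⟩
    rw [hr]
    exact hf.restrict V.ι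

/-- Both properties can be checked on an open cover. -/
theorem extProp_of_cover {U : X.Opens} {I : Type u} {W : I → Scheme.{u}} (g : ∀ i, W i ⟶ X)
    [∀ i, IsOpenImmersion (g i)] (hcov : ⨆ i, (g i).opensRange = ⊤) (hf : FunBij U)
    (h : ∀ i, ExtProp ((g i) ⁻¹ᵁ U)) : ExtProp U := by
  intro T Z f j _ _ hj L hL
  let T' : I → T.Opens := fun i => f ⁻¹ᵁ (g i).opensRange
  refine Groth.Agent.H11Tilde.isInvertible_of_openImmersions (fun i => (T' i).ι) (fun x => ?_) _ fun i => ?_
  · obtain ⟨i, hi⟩ := Opens.mem_iSup.mp (hcov.symm ▸ (trivial : f x ∈ (⊤ : X.Opens)) : f x ∈ ⨆ i, (g i).opensRange)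
    exact ⟨i, ⟨x, hi⟩, rfl⟩
  · let M := (Scheme.Modules.pushforward j).obj L
    let Z' := j ⁻¹ᵁ T' i
    let j' : (Z' : Scheme.{u}) ⟶ (T' i : Scheme.{u}) := j ∣_ T' i
    let k : (T' i : Scheme.{u}) ⟶ W i := IsOpenImmersion.lift (g i) ((T' i).ι ≫ f) (by
      rintro _ ⟨⟨x, hx⟩, rfl⟩
      exact hx)
    haveI : IsOpenImmersion k := by
      have hk : k ≫ g i = (T' i).ι ≫ f := IsOpenImmersion.lift_fac _ _ _
      have : IsOpenImmersion (k ≫ g i) := by rw [hk]; infer_instance
      exact IsOpenImmersion.of_comp k (g i)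
    have hrange : j'.opensRange = (T' i).ι ⁻¹ᵁ j.opensRange := by
      apply Scheme.Hom.image_injective (T' i).ι
      show (T' i).ι ''ᵁ j'.opensRange = (T' i).ι ''ᵁ ((T' i).ι ⁻¹ᵁ j.opensRange)
      rw [← Scheme.Hom.opensRange_comp]
      simp only [j', morphismRestrict_ι]
      rw [Scheme.Hom.opensRange_comp, Scheme.Opens.opensRange_ι, Scheme.Hom.image_preimage_eq_opensRange_inf,
        Scheme.Hom.image_preimage_eq_opensRange_inf, Scheme.Opens.opensRange_ι, inf_comm]
    have hrange' : j'.opensRange = k ⁻¹ᵁ (g i ⁻¹ᵁ U) := by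
      rw [hrange, hj, ← Scheme.Hom.comp_preimage, ← Scheme.Hom.comp_preimage]
      exact congrArg (· ⁻¹ᵁ U) (IsOpenImmersion.lift_fac _ _ _).symm
    have hM : SecBij j.opensRange M := fun V => by
      refine (bijective_map_congr L ?_ rfl (Scheme.Hom.preimage_mono j inf_le_left) le_rfl).mpr ?_
      · rw [Scheme.Hom.preimage_inf, Scheme.Hom.preimage_opensRange, inf_top_eq]
      · rw [show (homOfLE (le_refl (j ⁻¹ᵁ V))).op = 𝟙 _ from rfl, CategoryTheory.Functor.map_id]
        exact Function.bijective_id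
    obtain ⟨e⟩ := nonempty_iso_pushforward j' (L := M.restrict (T' i).ι) (L₀ := L.restrict Z'.ι)
      (hrange ▸ hM.restrict (T' i).ι)
      (((Scheme.Modules.restrictFunctorComp j' (T' i).ι).app M).symm ≪≫
        (Scheme.Modules.restrictFunctorCongr (morphismRestrict_ι j (T' i))).app M ≪≫
        (Scheme.Modules.restrictFunctorComp Z'.ι j).app M ≪≫
        (Scheme.Modules.restrictFunctor Z'.ι).mapIso (restrictPushIso j L))
    exact Groth.Agent.H11Tilde.isInvertible_of_iso e.symm (h i k j' hrange' _ (isInvertible_restrict Z'.ι hL))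

/-- Shrinking the closed set. -/
theorem pair_mono {U U' : X.Opens} (hle : U ≤ U') (hf : FunBij U) (he : ExtProp U) : FunBij U' ∧ ExtProp U' := by
  have hf' : FunBij U' := by
    intro V
    have h2 := hf (V ⊓ U')
    have e : (Coh.structureModule X).presheaf.map (homOfLE (inf_le_left : V ⊓ U' ≤ V)).op ≫
        (Coh.structureModule X).presheaf.map (homOfLE (inf_le_left : V ⊓ U' ⊓ U ≤ V ⊓ U')).op =
      (Coh.structureModule X).presheaf.map (homOfLE (inf_le_left.trans inf_le_left : V ⊓ U' ⊓ U ≤ V)).op := by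
      rw [← Functor.map_comp]; rfl
    have h1 : Function.Bijective ((Coh.structureModule X).presheaf.map
        (homOfLE (inf_le_left.trans inf_le_left : V ⊓ U' ⊓ U ≤ V)).op) :=
      (bijective_map_congr _ (by rw [inf_assoc, inf_eq_right.mpr hle]) rfl _ _).mpr (hf V)
    rw [← e, AddCommGrpCat.coe_comp] at h1
    exact (Function.Bijective.of_comp_iff' h2 _).mp h1
  refine ⟨hf', ?_⟩
  intro T Z g j _ _ hj L hL
  let U₀ : Z.Opens := j ⁻¹ᵁ (g ⁻¹ᵁ U)
  have hr : (U₀.ι ≫ j).opensRange = g ⁻¹ᵁ U := by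
    rw [Scheme.Hom.opensRange_comp, Scheme.Opens.opensRange_ι, Scheme.Hom.image_preimage_eq_opensRange_inf, hj,
      inf_eq_right.mpr (Scheme.Hom.preimage_mono g hle)]
  let L₀ := L.restrict U₀.ι
  have hM : PicF.IsInvertible ((Scheme.Modules.pushforward (U₀.ι ≫ j)).obj L₀) :=
    he g (U₀.ι ≫ j) hr L₀ (isInvertible_restrict _ hL)
  let M := (Scheme.Modules.pushforward (U₀.ι ≫ j)).obj L₀
  have hfZ : SecBij U₀.ι.opensRange (Coh.structureModule Z) := by
    rw [Scheme.Opens.opensRange_ι]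
    exact (hf.restrict g).restrict j
  obtain ⟨e1⟩ := nonempty_iso_pushforward U₀.ι (L := M.restrict j) (L₀ := L₀)
    (secBij_of_isInvertible hfZ (isInvertible_restrict j hM))
    (((Scheme.Modules.restrictFunctorComp U₀.ι j).app M).symm ≪≫ restrictPushIso (U₀.ι ≫ j) L₀)
  obtain ⟨e2⟩ := nonempty_iso_pushforward U₀.ι (L := L) (L₀ := L₀) (secBij_of_isInvertible hfZ hL) (Iso.refl _)
  obtain ⟨e3⟩ := nonempty_iso_pushforward j (L := M)
    (secBij_of_isInvertible (by rw [hj]; exact hf'.restrict g) hM) (e1 ≪≫ e2.symm)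
  exact Groth.Agent.H11Tilde.isInvertible_of_iso e3 hM

end Groth.Agent.H23Para
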