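import Groth.Agent.H23Para.DepthFun
import Groth.Agent.H23Para.Pair
import Groth.Agent.H8Props.FlatDepth
import Mathlib.AlgebraicGeometry.Morphisms.Finite
import Mathlib.AlgebraicGeometry.Morphisms.Flat
import Mathlib.AlgebraicGeometry.Noetherian

/-!
# Extension of morphisms into affine schemes along functions
-/

set_option autoImplicit false
set_option linter.style.haveILetI false

noncomputable section

universe u

open CategoryTheory AlgebraicGeometry TopologicalSpace Limits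

namespace Groth.Agent.H23Para

variable {P T Y S : Scheme.{u}}

/-- Global functions are those of `U`. -/
theorem bijective_ι_appTop {U : P.Opens} (h : FunBij U) : Function.Bijective U.ι.appTop := by
  rw [Scheme.Opens.ι_appTop]
  refine (bijective_map_congr (Coh.structureModule P) (A := ⊤ ⊓ U) (B := ⊤) (B' := ⊤) ?_ rfl inf_le_left le_top).mp
    ((funBij_iff U).mp h ⊤)
  rw [top_inf_eq, Scheme.Opens.ι_image_top]

/-- Morphisms into an affine scheme are determined by their restriction to `U`. -/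
theorem eq_of_agree_affine [IsAffine Y] {U : P.Opens} (h : FunBij U) {g g' : P ⟶ Y}
    (e : U.ι ≫ g = U.ι ≫ g') : g = g' := by
  refine ext_of_isAffine ?_
  haveI : Mono U.ι.appTop := ConcreteCategory.mono_of_injective _ (bijective_ι_appTop h).1
  rw [← cancel_mono U.ι.appTop, ← Scheme.Hom.comp_appTop, e, Scheme.Hom.comp_appTop]

/-- Morphisms into an affine scheme extend from `U`. -/
theorem exists_extend_affine [IsAffine Y] {U : P.Opens} (h : FunBij U) (k : (U : Scheme.{u}) ⟶ Y) :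
    ∃ g : P ⟶ Y, U.ι ≫ g = k := by
  haveI : IsIso U.ι.appTop := (ConcreteCategory.isIso_iff_bijective _).mpr (bijective_ι_appTop h)
  refine ⟨P.toSpecΓ ≫ Spec.map (k.appTop ≫ inv U.ι.appTop) ≫ Y.isoSpec.inv, ?_⟩
  rw [← Category.assoc, Scheme.toSpecΓ_naturality, Category.assoc, ← Spec.map_comp_assoc, Category.assoc,
    IsIso.inv_hom_id, Category.comp_id, ← Scheme.toSpecΓ_naturality_assoc]
  simp [Scheme.isoSpec]

/-- The inclusion of the part over `U` of an open piece. -/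
theorem range_subset (U : P.Opens) {Z : Scheme.{u}} (q : Z ⟶ P) :
    Set.range ((q ⁻¹ᵁ U).ι ≫ q).base ⊆ Set.range U.ι.base := by
  rintro _ ⟨⟨x, hx⟩, rfl⟩
  rw [Scheme.Opens.range_ι]
  exact hx

/-- The part over `U` of an open piece, mapped to `U`. -/
def toPart (U : P.Opens) {Z : Scheme.{u}} (q : Z ⟶ P) : ((q ⁻¹ᵁ U : Z.Opens) : Scheme.{u}) ⟶ U :=
  IsOpenImmersion.lift U.ι ((q ⁻¹ᵁ U).ι ≫ q) (range_subset U q)

@[reassoc]
theorem toPart_ι (U : P.Opens) {Z : Scheme.{u}} (q : Z ⟶ P) : toPart U q ≫ U.ι = (q ⁻¹ᵁ U).ι ≫ q :=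
  IsOpenImmersion.lift_fac _ _ _

/-- Gluing of morphisms on an open cover. -/
theorem exists_glue {ι : Type u} (Q : ι → P.Opens) (hQ : IsOpenCover Q) (g : ∀ i, (Q i : Scheme.{u}) ⟶ T)
    (compat : ∀ i j (Z : Scheme.{u}) (a : Z ⟶ Q i) (b : Z ⟶ Q j), IsOpenImmersion (a ≫ (Q i).ι) →
      a ≫ (Q i).ι = b ≫ (Q j).ι → a ≫ g i = b ≫ g j) :
    ∃ G : P ⟶ T, ∀ i, (Q i).ι ≫ G = g i :=
  ⟨(P.openCoverOfIsOpenCover Q hQ).glueMorphisms g fun i j =>
      compat i j _ (pullback.fst ((P.openCoverOfIsOpenCover Q hQ).f i) ((P.openCoverOfIsOpenCover Q hQ).f j))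
        (pullback.snd ((P.openCoverOfIsOpenCover Q hQ).f i) ((P.openCoverOfIsOpenCover Q hQ).f j))
        (show IsOpenImmersion (pullback.fst ((P.openCoverOfIsOpenCover Q hQ).f i) ((P.openCoverOfIsOpenCover Q hQ).f j) ≫
          (P.openCoverOfIsOpenCover Q hQ).f i) from inferInstance) pullback.condition,
    fun i => (P.openCoverOfIsOpenCover Q hQ).ι_glueMorphisms g _ i⟩

/-- Morphisms agree if they agree on an open cover. -/
theorem eq_of_cover {ι : Type u} (Q : ι → P.Opens) (hQ : IsOpenCover Q) {g g' : P ⟶ T}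
    (h : ∀ i, (Q i).ι ≫ g = (Q i).ι ≫ g') : g = g' :=
  Scheme.Cover.hom_ext (P.openCoverOfIsOpenCover Q hQ) g g' h

/-- Morphisms over `S` into an affine `S`-scheme are determined by their restriction to `U`. -/
theorem eq_of_agree (f : T ⟶ S) [IsAffineHom f] {U : P.Opens} (h : FunBij U) {g g' : P ⟶ T}
    (hS : g ≫ f = g' ≫ f) (e : U.ι ≫ g = U.ι ≫ g') : g = g' := by
  refine eq_of_cover (fun V : S.affineOpens => (g ≫ f) ⁻¹ᵁ V.1) (.comap (iSup_affineOpens_eq_top S) _) fun V => ?_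
  let Q : P.Opens := (g ≫ f) ⁻¹ᵁ V.1
  let W : T.Opens := f ⁻¹ᵁ V.1
  haveI : IsAffine (W : Scheme.{u}) := V.2.preimage f
  show Q.ι ≫ g = Q.ι ≫ g'
  have hr : ∀ g₀ : P ⟶ T, g₀ ≫ f = g ≫ f → Set.range (Q.ι ≫ g₀).base ⊆ Set.range W.ι.base := by
    rintro g₀ h₀ _ ⟨⟨x, hx⟩, rfl⟩
    rw [Scheme.Opens.range_ι]
    show (g₀ ≫ f).base x ∈ V.1
    rw [h₀]
    exact hx
  rw [← IsOpenImmersion.lift_fac W.ι (Q.ι ≫ g) (hr g rfl), ← IsOpenImmersion.lift_fac W.ι (Q.ι ≫ g') (hr g' hS.symm)]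
  congr 1
  refine eq_of_agree_affine (h.restrict Q.ι) ?_
  rw [← cancel_mono W.ι, Category.assoc, Category.assoc, IsOpenImmersion.lift_fac, IsOpenImmersion.lift_fac,
    ← toPart_ι_assoc, ← toPart_ι_assoc, e]

/-- Morphisms over `S` into an affine `S`-scheme extend from `U`. -/
theorem exists_extend (f : T ⟶ S) [IsAffineHom f] (p : P ⟶ S) {U : P.Opens} (h : FunBij U)
    (k : (U : Scheme.{u}) ⟶ T) (hk : k ≫ f = U.ι ≫ p) :
    ∃ g : P ⟶ T, g ≫ f = p ∧ U.ι ≫ g = k := by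
  have hcov : IsOpenCover fun V : S.affineOpens => p ⁻¹ᵁ V.1 := .comap (iSup_affineOpens_eq_top S) _
  have local_ : ∀ V : S.affineOpens, ∃ g : ((p ⁻¹ᵁ V.1 : P.Opens) : Scheme.{u}) ⟶ T,
      g ≫ f = (p ⁻¹ᵁ V.1).ι ≫ p ∧
      ((p ⁻¹ᵁ V.1).ι ⁻¹ᵁ U).ι ≫ g = toPart U (p ⁻¹ᵁ V.1).ι ≫ k := by
    intro V
    let Q : P.Opens := p ⁻¹ᵁ V.1
    let W : T.Opens := f ⁻¹ᵁ V.1
    haveI : IsAffine (W : Scheme.{u}) := V.2.preimage f
    haveI : IsAffine (V.1 : Scheme.{u}) := V.2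
    let U' := Q.ι ⁻¹ᵁ U
    have hj : (toPart U Q.ι ≫ k) ≫ f = U'.ι ≫ Q.ι ≫ p := by
      rw [Category.assoc, hk, toPart_ι_assoc]
    have hr : Set.range (toPart U Q.ι ≫ k).base ⊆ Set.range W.ι.base := by
      rintro _ ⟨⟨⟨x, hxQ⟩, hxU⟩, rfl⟩
      rw [Scheme.Opens.range_ι]
      show ((toPart U Q.ι ≫ k) ≫ f).base _ ∈ V.1
      rw [hj]
      exact hxQ
    obtain ⟨g, hg⟩ := exists_extend_affine (h.restrict Q.ι) (IsOpenImmersion.lift W.ι (toPart U Q.ι ≫ k) hr)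
    refine ⟨g ≫ W.ι, ?_, by rw [← Category.assoc, hg, IsOpenImmersion.lift_fac]⟩
    have hrQ : Set.range (Q.ι ≫ p).base ⊆ Set.range V.1.ι.base := by
      rintro _ ⟨⟨x, hx⟩, rfl⟩
      rw [Scheme.Opens.range_ι]
      exact hx
    have hrW : Set.range ((g ≫ W.ι) ≫ f).base ⊆ Set.range V.1.ι.base := by
      rintro _ ⟨x, rfl⟩
      rw [Scheme.Opens.range_ι]
      exact (g.base x).2
    rw [← IsOpenImmersion.lift_fac V.1.ι _ hrW, ← IsOpenImmersion.lift_fac V.1.ι _ hrQ]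
    congr 1
    refine eq_of_agree_affine (h.restrict Q.ι) ?_
    rw [← cancel_mono V.1.ι]
    refine (Category.assoc _ _ _).trans ((congrArg (U'.ι ≫ ·) (IsOpenImmersion.lift_fac V.1.ι _ hrW)).trans
      (Eq.trans ?_ ((Category.assoc _ _ _).trans (congrArg (U'.ι ≫ ·) (IsOpenImmersion.lift_fac V.1.ι _ hrQ))).symm))
    show U'.ι ≫ (g ≫ W.ι) ≫ f = U'.ι ≫ Q.ι ≫ p
    rw [← Category.assoc, reassoc_of% hg, IsOpenImmersion.lift_fac, hj]
  choose g hgS hgU using local_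
  -- the restriction of a piece to the part over `U`
  have key : ∀ (V : S.affineOpens) {Z : Scheme.{u}} (a : Z ⟶ ((p ⁻¹ᵁ V.1 : P.Opens) : Scheme.{u})) (c : Z ⟶ U),
      a ≫ (p ⁻¹ᵁ V.1).ι = c ≫ U.ι → a ≫ g V = c ≫ k := by
    intro V Z a c ha
    have hra : Set.range a.base ⊆ Set.range ((p ⁻¹ᵁ V.1).ι ⁻¹ᵁ U).ι.base := by
      rintro _ ⟨z, rfl⟩
      rw [Scheme.Opens.range_ι]
      show (a ≫ (p ⁻¹ᵁ V.1).ι).base z ∈ U
      rw [ha]
      exact (c.base z).2
    rw [← IsOpenImmersion.lift_fac _ a hra, Category.assoc, hgU, ← Category.assoc]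
    congr 1
    rw [← cancel_mono U.ι, Category.assoc, toPart_ι, IsOpenImmersion.lift_fac_assoc, ha]
  obtain ⟨G, hG⟩ := exists_glue _ hcov g fun V V' Z a b hab hcond => by
    refine eq_of_agree f (h.restrict (a ≫ (p ⁻¹ᵁ V.1).ι)) ?_ ?_
    · rw [Category.assoc, hgS, Category.assoc, hgS, ← Category.assoc, hcond, Category.assoc]
    · rw [← Category.assoc, ← Category.assoc,
        key V _ (toPart U (a ≫ (p ⁻¹ᵁ V.1).ι)) (by rw [toPart_ι, Category.assoc]),
        key V' _ (toPart U (a ≫ (p ⁻¹ᵁ V.1).ι)) (by rw [toPart_ι, Category.assoc, hcond])]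
  refine ⟨G, eq_of_cover _ hcov fun V => by rw [← Category.assoc, hG, hgS], ?_⟩
  refine eq_of_cover (fun V : S.affineOpens => U.ι ⁻¹ᵁ p ⁻¹ᵁ V.1)
    (.comap (.comap (iSup_affineOpens_eq_top S) _) _) fun V => ?_
  let R : (U : Scheme.{u}).Opens := U.ι ⁻¹ᵁ p ⁻¹ᵁ V.1
  show R.ι ≫ U.ι ≫ G = R.ι ≫ k
  rw [← key V (toPart (p ⁻¹ᵁ V.1) U.ι) R.ι (toPart_ι _ _), ← hG V, ← toPart_ι_assoc]

/-- Functions extend on a finite flat scheme over `S` across depth two. -/
theorem funBij_preimage_of_depth [IsLocallyNoetherian S] (f : P ⟶ S) [IsFinite f] [Flat f] (U : S.Opens)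
    (hU : ∀ s : S, s ∉ U → (2 : ℕ∞) ≤ LocCoh.depth (S.presheaf.stalk s) (S.presheaf.stalk s)) :
    FunBij (f ⁻¹ᵁ U) := by
  haveI : IsLocallyNoetherian P := LocallyOfFiniteType.isLocallyNoetherian f
  refine funBij_of_depth _ fun x hx => (hU (f.base x) hx).trans ?_
  letI := (f.stalkMap x).hom.toAlgebra
  haveI : IsLocalHom (algebraMap (S.presheaf.stalk (f.base x)) (P.presheaf.stalk x)) :=
    inferInstanceAs (IsLocalHom (f.stalkMap x).hom)
  haveI : Module.Flat (S.presheaf.stalk (f.base x)) (P.presheaf.stalk x) :=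
    RingHom.flat_algebraMap_iff.mp (Flat.stalkMap f x)
  haveI : Nontrivial (P.presheaf.stalk x ⧸ (IsLocalRing.maximalIdeal (S.presheaf.stalk (f.base x))).map
      (algebraMap (S.presheaf.stalk (f.base x)) (P.presheaf.stalk x))) :=
    Ideal.Quotient.nontrivial_iff.mpr (ne_top_of_le_ne_top (IsLocalRing.maximalIdeal.isMaximal _).ne_top
      (IsLocalRing.map_maximalIdeal_le _))
  haveI : IsLocalRing (P.presheaf.stalk x ⧸ (IsLocalRing.maximalIdeal (S.presheaf.stalk (f.base x))).map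
      (algebraMap (S.presheaf.stalk (f.base x)) (P.presheaf.stalk x))) :=
    .of_surjective' _ Ideal.Quotient.mk_surjective
  rw [H8Props.FlatDepth.depth_eq_add (S.presheaf.stalk (f.base x)) (P.presheaf.stalk x)]
  exact le_self_add

end Groth.Agent.H23Para
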