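import Groth.Agent.H23Para.Local
import Groth.Agent.H4Depth.LocDepth

/-!
# Extending functions across closed subsets of depth at least two
-/

set_option autoImplicit false
set_option linter.style.haveILetI false

noncomputable section

universe u

open CategoryTheory CategoryTheory.Limits AlgebraicGeometry Opposite TopologicalSpace RingTheory.Sequence
open LocCoh
open scoped Pointwise

namespace Groth.Agent.H23Para

variable {X : Scheme.{u}}

theorem res_res {A B C : X.Opens} (hBA : B ≤ A) (hCB : C ≤ B) (s : Γ(X, A)) :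
    X.presheaf.map (homOfLE hCB).op (X.presheaf.map (homOfLE hBA).op s) =
      X.presheaf.map (homOfLE (hCB.trans hBA)).op s := by
  rw [← ConcreteCategory.comp_apply, ← Functor.map_comp]
  rfl

theorem res_self {A : X.Opens} (s : Γ(X, A)) : X.presheaf.map (homOfLE (le_refl A)).op s = s := by
  rw [show (homOfLE (le_refl A)).op = 𝟙 _ from rfl, CategoryTheory.Functor.map_id]
  rfl

theorem eq_zero_of_locally {A : X.Opens} (s : Γ(X, A))
    (h : ∀ p ∈ A, ∃ (B : X.Opens) (hBA : B ≤ A), p ∈ B ∧ X.presheaf.map (homOfLE hBA).op s = 0) : s = 0 := by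
  choose B hBA hpB h0 using h
  apply TopCat.Sheaf.eq_of_locally_eq' X.sheaf (fun p : A => B p.1 p.2) A (fun p => homOfLE (hBA p.1 p.2))
    (fun p hp => Opens.mem_iSup.mpr ⟨⟨p, hp⟩, hpB p hp⟩)
  intro p
  exact (h0 p.1 p.2).trans (map_zero (X.presheaf.map (homOfLE (hBA p.1 p.2)).op).hom).symm

/-- A section vanishing on `D(x)` for a regular `x` vanishes. -/
theorem eq_zero_of_regular {W : X.Opens} (hW : IsAffineOpen W) {x : Γ(X, W)} (hx : IsSMulRegular Γ(X, W) x)
    {V : X.Opens} (hVW : V ≤ W) (hxV : X.basicOpen x ≤ V) (τ : Γ(X, V))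
    (h : X.presheaf.map (homOfLE hxV).op τ = 0) : τ = 0 := by
  refine eq_zero_of_locally τ fun p hp => ?_
  obtain ⟨f, hf, hpf⟩ := hW.exists_basicOpen_le ⟨p, hp⟩ (hVW hp)
  refine ⟨X.basicOpen f, hf, hpf, ?_⟩
  haveI := hW.isLocalization_basicOpen f
  haveI := hW.isLocalization_basicOpen (x * f)
  obtain ⟨n, d, hd⟩ := IsLocalization.Away.surj f (X.presheaf.map (homOfLE hf).op τ)
  have hle : X.basicOpen (x * f) ≤ X.basicOpen f := by rw [X.basicOpen_mul]; exact inf_le_right
  have hle' : X.basicOpen (x * f) ≤ X.basicOpen x := by rw [X.basicOpen_mul]; exact inf_le_left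
  have hz : X.presheaf.map (homOfLE hle).op (X.presheaf.map (homOfLE hf).op τ) = 0 := by
    rw [res_res, ← res_res hxV hle', h, map_zero]
  have h2 := congrArg (X.presheaf.map (homOfLE hle).op) hd
  rw [map_mul, hz, zero_mul] at h2
  have h3 : algebraMap Γ(X, W) Γ(X, X.basicOpen (x * f)) d = 0 := by
    refine Eq.trans ?_ h2.symm
    exact (res_res (X.basicOpen_le f) hle d).symm
  obtain ⟨⟨_, k, rfl⟩, hk⟩ := (IsLocalization.map_eq_zero_iff (Submonoid.powers (x * f)) _ d).mp h3
  have hd0 : f ^ k * d = 0 := (hx.pow k).right_eq_zero_of_smul (by simpa [mul_pow, mul_assoc] using hk)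
  have h4 : algebraMap Γ(X, W) Γ(X, X.basicOpen f) d = 0 := by
    have := congrArg (algebraMap Γ(X, W) Γ(X, X.basicOpen f)) hd0
    rw [map_mul, map_pow, map_zero] at this
    exact ((IsLocalization.Away.algebraMap_isUnit f).pow k).mul_right_eq_zero.mp this
  rw [h4] at hd
  exact ((IsLocalization.Away.algebraMap_isUnit f).pow n).mul_left_eq_zero.mp hd

/-- Functions extend across a closed subset cut out by a regular pair. -/
theorem bijective_map_of_regular_pair {W : X.Opens} (hW : IsAffineOpen W) {x y : Γ(X, W)}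
    (hx : IsSMulRegular Γ(X, W) x) (hy : ∀ a, x ∣ y * a → x ∣ a) {V : X.Opens} (hVW : V ≤ W)
    (hxV : X.basicOpen x ≤ V) (hyV : X.basicOpen y ≤ V) :
    Function.Bijective (X.presheaf.map (homOfLE hVW).op) := by
  constructor
  · intro s t hst
    rw [← sub_eq_zero]
    refine eq_zero_of_regular hW hx le_rfl (X.basicOpen_le x) _ ?_
    rw [← res_res hVW hxV, map_sub, hst, sub_self, map_zero]
  · intro σ
    haveI := hW.isLocalization_basicOpen x
    haveI := hW.isLocalization_basicOpen y
    haveI := hW.isLocalization_basicOpen (x * y)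
    obtain ⟨n, a, ha⟩ := IsLocalization.Away.surj x (X.presheaf.map (homOfLE hxV).op σ)
    obtain ⟨m, b, hb⟩ := IsLocalization.Away.surj y (X.presheaf.map (homOfLE hyV).op σ)
    have hlx : X.basicOpen (x * y) ≤ X.basicOpen x := by rw [X.basicOpen_mul]; exact inf_le_left
    have hly : X.basicOpen (x * y) ≤ X.basicOpen y := by rw [X.basicOpen_mul]; exact inf_le_right
    let α := algebraMap Γ(X, W) Γ(X, X.basicOpen (x * y))
    let s : Γ(X, X.basicOpen (x * y)) := X.presheaf.map (homOfLE (hlx.trans hxV)).op σ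
    have ha' : s * α x ^ n = α a := by
      have := congrArg (X.presheaf.map (homOfLE hlx).op) ha
      rw [map_mul, map_pow, res_res] at this
      refine Eq.trans ?_ (this.trans (res_res (X.basicOpen_le x) hlx a))
      exact congrArg (fun q => s * q ^ n) (res_res (X.basicOpen_le x) hlx x).symm
    have hb' : s * α y ^ m = α b := by
      have := congrArg (X.presheaf.map (homOfLE hly).op) hb
      rw [map_mul, map_pow, res_res] at this
      refine Eq.trans ?_ (this.trans (res_res (X.basicOpen_le y) hly b))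
      exact congrArg (fun q => s * q ^ m) (res_res (X.basicOpen_le y) hly y).symm
    have hab : α (a * y ^ m) = α (b * x ^ n) := by
      simp only [map_mul, map_pow, ← ha', ← hb']
      ring
    obtain ⟨⟨_, k, rfl⟩, hk⟩ := (IsLocalization.eq_iff_exists (Submonoid.powers (x * y)) _).mp hab
    have hk' : y ^ k * (a * y ^ m) = y ^ k * (b * x ^ n) :=
      hx.pow k (by simpa [mul_pow, mul_assoc] using hk)
    have hypow : ∀ (j : ℕ) (c : Γ(X, W)), x ∣ y ^ j * c → x ∣ c := by
      intro j
      induction j with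
      | zero => simp
      | succ j ih => exact fun c hc => ih c (hy _ (by rwa [pow_succ', mul_assoc] at hc))
    have hxpow : ∀ (i : ℕ) (c : Γ(X, W)) (j : ℕ), x ^ i ∣ y ^ j * c → x ^ i ∣ c := by
      intro i
      induction i with
      | zero => simp
      | succ i ih =>
        intro c j hc
        obtain ⟨c', rfl⟩ := hypow j c (dvd_trans (dvd_pow_self x (Nat.succ_ne_zero i)) hc)
        obtain ⟨e, he⟩ := hc
        rw [pow_succ']
        refine mul_dvd_mul_left x (ih c' j ⟨e, hx ?_⟩)
        simp only [smul_eq_mul]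
        linear_combination he
    obtain ⟨c, hc⟩ := hxpow n a (m + k) ⟨y ^ k * b, by linear_combination hk'⟩
    refine ⟨c, ?_⟩
    rw [← sub_eq_zero]
    refine eq_zero_of_regular hW hx hVW hxV _ ?_
    rw [map_sub, res_res, sub_eq_zero]
    refine ((IsLocalization.Away.algebraMap_isUnit x).pow n).mul_right_cancel ?_
    rw [ha, hc, map_mul, map_pow]
    exact mul_comm _ _

/-- Functions extend across the zero set of an ideal of depth at least two, and conversely. -/
theorem bijective_map_iff_two_le_idealDepth {W : X.Opens} (hW : IsAffineOpen W) [IsNoetherianRing Γ(X, W)]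
    {I : Ideal Γ(X, W)} {V : X.Opens} (hVW : V ≤ W) (hV : V = ⨆ f : I, X.basicOpen f.1) :
    Function.Bijective (X.presheaf.map (homOfLE hVW).op) ↔ (2 : ℕ∞) ≤ idealDepth I Γ(X, W) := by
  have hle : ∀ f ∈ I, X.basicOpen f ≤ V := fun f hf => hV ▸ le_iSup (fun f : I => X.basicOpen f.1) ⟨f, hf⟩
  by_cases htop : I • (⊤ : Submodule Γ(X, W) Γ(X, W)) = ⊤
  · simp only [H4Depth.idealDepth_eq_top htop, le_top, iff_true]
    have h1 : (1 : Γ(X, W)) ∈ I := by
      have : I = ⊤ := by simpa using htop
      rw [this]; trivial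
    have hWV : W ≤ V := by simpa using hle 1 h1
    obtain rfl := le_antisymm hVW hWV
    exact ⟨fun s t h => by rwa [res_self, res_self] at h, fun s => ⟨s, res_self s⟩⟩
  constructor
  · intro hb
    have hreg : ∃ x ∈ I, IsSMulRegular Γ(X, W) x := by
      by_contra hno
      push Not at hno
      obtain ⟨q, hq, hIq⟩ := H4Depth.exists_associatedPrime_ge_of_no_regular hno
      obtain ⟨-, d, hd⟩ := isAssociatedPrime_iff.mp hq
      have hd0 : d = 0 := by
        apply hb.1
        rw [map_zero]
        refine eq_zero_of_locally _ fun p hp => ?_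
        obtain ⟨⟨f, hf⟩, hpf⟩ := Opens.mem_iSup.mp (hV ▸ hp)
        refine ⟨X.basicOpen f, hle f hf, hpf, ?_⟩
        haveI := hW.isLocalization_basicOpen f
        have hfd := hIq hf
        rw [hd, Submodule.mem_colon_singleton, Submodule.mem_bot, smul_eq_mul] at hfd
        have := congrArg (algebraMap Γ(X, W) Γ(X, X.basicOpen f)) hfd
        rw [map_mul, map_zero] at this
        rw [res_res]
        exact (IsLocalization.Away.algebraMap_isUnit f).mul_right_eq_zero.mp this
      refine hq.isPrime.ne_top ?_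
      rw [hd, hd0]
      exact Ideal.eq_top_of_isUnit_mem _ (by simp [Submodule.mem_colon_singleton]) isUnit_one
    obtain ⟨x, hxI, hx⟩ := hreg
    rw [← H4Depth.idealDepth_quotSMulTop_add_one hxI hx]
    suffices 1 ≤ idealDepth I (QuotSMulTop x Γ(X, W)) by
      calc (2 : ℕ∞) = 1 + 1 := by norm_num
        _ ≤ _ := by gcongr
    by_contra hlt
    rw [not_le, ENat.lt_one_iff_eq_zero] at hlt
    obtain ⟨q, hq, hIq⟩ := (H4Depth.idealDepth_eq_zero_iff_exists_associatedPrime
      (H4Depth.smul_top_ne_top_of_one_le hxI htop)).mp hlt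
    obtain ⟨-, abar, ha⟩ := isAssociatedPrime_iff.mp hq
    obtain ⟨a, rfl⟩ := Submodule.Quotient.mk_surjective _ abar
    have hmul : ∀ f : I, ∃ b, x * b = f.1 * a := by
      intro f
      have := hIq f.2
      rw [ha, Submodule.mem_colon_singleton, Submodule.mem_bot, ← Submodule.Quotient.mk_smul,
        Submodule.Quotient.mk_eq_zero] at this
      obtain ⟨c, -, hc⟩ := this
      exact ⟨c, hc⟩
    choose b hb' using hmul
    let u : ∀ f : I, Γ(X, X.basicOpen f.1) := fun f =>
      algebraMap Γ(X, W) _ (b f) * Ring.inverse (algebraMap Γ(X, W) _ f.1)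
    have hu : ∀ f : I, u f * algebraMap Γ(X, W) _ f.1 = algebraMap Γ(X, W) _ (b f) := fun f => by
      haveI := hW.isLocalization_basicOpen f.1
      rw [mul_assoc, Ring.inverse_mul_cancel _ (IsLocalization.Away.algebraMap_isUnit f.1), mul_one]
    have hcompat : TopCat.Presheaf.IsCompatible X.sheaf.1 (fun f : I => X.basicOpen f.1) u := by
      intro f g
      let O := X.basicOpen f.1 ⊓ X.basicOpen g.1
      let β : Γ(X, W) →+* Γ(X, O) :=
        (X.presheaf.map (homOfLE (inf_le_left.trans (X.basicOpen_le f.1) : O ≤ W)).op).hom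
      have key : ∀ (h : I) (hh : O ≤ X.basicOpen h.1),
          X.presheaf.map (homOfLE hh).op (u h) * β h.1 = β (b h) ∧ IsUnit (β h.1) := by
        intro h hh
        haveI := hW.isLocalization_basicOpen h.1
        have e : ∀ z, X.presheaf.map (homOfLE hh).op (algebraMap Γ(X, W) _ z) = β z := fun z =>
          res_res (X.basicOpen_le h.1) hh z
        refine ⟨?_, e h.1 ▸ (IsLocalization.Away.algebraMap_isUnit h.1).map _⟩
        rw [← e, ← e, ← map_mul, hu]
      obtain ⟨hf, huf⟩ := key f inf_le_left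
      obtain ⟨hg, hug⟩ := key g inf_le_right
      show X.presheaf.map (homOfLE _).op (u f) = X.presheaf.map (homOfLE _).op (u g)
      refine (huf.mul hug).mul_right_cancel ?_
      rw [← mul_assoc, hf, mul_comm (β f.1), ← mul_assoc, hg, ← map_mul, ← map_mul]
      congr 1
      refine hx ?_
      simp only [smul_eq_mul]
      rw [← mul_assoc, hb', ← mul_assoc, hb']
      ring
    obtain ⟨σ, hσ, -⟩ := TopCat.Sheaf.existsUnique_gluing' X.sheaf (fun f : I => X.basicOpen f.1) V
      (fun f => homOfLE (hle f.1 f.2)) hV.le u hcompat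
    obtain ⟨c, rfl⟩ := hb.2 σ
    have hac : x * c = a := by
      apply hb.1
      rw [map_mul, ← sub_eq_zero]
      refine eq_zero_of_locally _ fun p hp => ?_
      obtain ⟨f, hpf⟩ := Opens.mem_iSup.mp (hV ▸ hp)
      refine ⟨X.basicOpen f.1, hle f.1 f.2, hpf, ?_⟩
      haveI := hW.isLocalization_basicOpen f.1
      rw [map_sub, map_mul, sub_eq_zero, res_res, res_res]
      refine (IsLocalization.Away.algebraMap_isUnit (S := Γ(X, X.basicOpen f.1)) f.1).mul_right_cancel ?_
      have hσc : X.presheaf.map (homOfLE ((hle f.1 f.2).trans hVW)).op c = u f :=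
        (res_res hVW (hle f.1 f.2) c).symm.trans (hσ f)
      rw [mul_assoc]
      erw [hσc, hu f]
      rw [res_res]
      show algebraMap Γ(X, W) Γ(X, X.basicOpen f.1) x * algebraMap _ _ (b f) =
        algebraMap _ _ a * algebraMap _ _ f.1
      rw [← map_mul, ← map_mul, hb', mul_comm]
    refine hq.isPrime.ne_top ?_
    rw [ha, (Submodule.Quotient.mk_eq_zero (x • (⊤ : Submodule Γ(X, W) Γ(X, W))) (x := a)).mpr ⟨c, trivial, hac⟩]
    exact Ideal.eq_top_of_isUnit_mem _ (by simp [Submodule.mem_colon_singleton]) isUnit_one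
  · intro h2
    obtain ⟨rs, hlen, hmem, hreg⟩ := H4Depth.exists_isWeaklyRegular_of_le_idealDepth (n := 2) htop h2
    obtain ⟨x, y, rfl⟩ := List.length_eq_two.mp hlen
    obtain ⟨hx, hreg'⟩ := (isWeaklyRegular_cons_iff _ _ _).mp hreg
    obtain ⟨hy, -⟩ := (isWeaklyRegular_cons_iff _ _ _).mp hreg'
    refine bijective_map_of_regular_pair hW hx (y := y) (fun a ha => ?_) hVW (hle x (hmem x (by simp)))
      (hle y (hmem y (by simp)))
    have h0 : ∀ z : Γ(X, W), (Submodule.Quotient.mk z : QuotSMulTop x Γ(X, W)) = 0 ↔ x ∣ z := fun z => by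
      rw [Submodule.Quotient.mk_eq_zero]
      exact ⟨fun ⟨c, _, hc⟩ => ⟨c, hc.symm⟩, fun ⟨c, hc⟩ => ⟨c, trivial, hc.symm⟩⟩
    refine (h0 a).mp (hy.right_eq_zero_of_smul ?_)
    rw [← Submodule.Quotient.mk_smul]
    exact (h0 _).mpr ha

/-- Functions extend from `U` if the ideal of the complement has depth at least two on each affine open. -/
theorem funBij_of_affines {U : X.Opens}
    (h : ∀ W : X.Opens, IsAffineOpen W → Function.Bijective (X.presheaf.map (homOfLE (inf_le_left : W ⊓ U ≤ W)).op)) :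
    FunBij U := by
  rw [funBij_iff]
  have hinj : ∀ V : X.Opens, Function.Injective (X.presheaf.map (homOfLE (inf_le_left : V ⊓ U ≤ V)).op) := by
    intro V s t hst
    rw [← sub_eq_zero]
    refine eq_zero_of_locally _ fun p hp => ?_
    obtain ⟨W, hW, hpW, hWV'⟩ := exists_isAffineOpen_mem_and_subset hp
    have hWV : W ≤ V := hWV'
    refine ⟨W, hWV, hpW, (h W hW).1 ?_⟩
    rw [res_res, map_zero, ← res_res (inf_le_left : V ⊓ U ≤ V) (inf_le_inf_right U hWV), map_sub, hst, sub_self,
      map_zero]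
  intro V
  refine ⟨hinj V, fun t => ?_⟩
  choose W hW hpW hWV' using fun p : V => exists_isAffineOpen_mem_and_subset p.2
  have hWV : ∀ p, W p ≤ V := hWV'
  choose s hs using fun p : V => (h (W p) (hW p)).2
    (X.presheaf.map (homOfLE (inf_le_inf_right U (hWV p) : W p ⊓ U ≤ V ⊓ U)).op t)
  have hcompat : TopCat.Presheaf.IsCompatible X.sheaf.1 W s := by
    intro p q
    show X.presheaf.map (homOfLE _).op (s p) = X.presheaf.map (homOfLE _).op (s q)
    apply hinj (W p ⊓ W q)
    have e1 := congrArg (X.presheaf.map (homOfLE (inf_le_inf_right U inf_le_left : W p ⊓ W q ⊓ U ≤ W p ⊓ U)).op) (hs p)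
    have e2 := congrArg (X.presheaf.map (homOfLE (inf_le_inf_right U inf_le_right : W p ⊓ W q ⊓ U ≤ W q ⊓ U)).op) (hs q)
    rw [res_res, res_res] at e1 e2
    rw [res_res, res_res]
    exact e1.trans e2.symm
  obtain ⟨(v : Γ(X, V)), hv, -⟩ := TopCat.Sheaf.existsUnique_gluing' X.sheaf W V (fun p => homOfLE (hWV p))
    (fun p hp => Opens.mem_iSup.mpr ⟨⟨p, hp⟩, hpW ⟨p, hp⟩⟩) s hcompat
  refine ⟨v, sub_eq_zero.mp (eq_zero_of_locally _ fun p hp => ?_)⟩
  obtain ⟨hpV, hpU⟩ : p ∈ V ∧ p ∈ U := Opens.mem_inf.mp hp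
  let q : V := ⟨p, hpV⟩
  refine ⟨W q ⊓ U, inf_le_inf_right U (hWV q), Opens.mem_inf.mpr ⟨hpW q, hpU⟩, ?_⟩
  rw [map_sub, sub_eq_zero, res_res, ← hs q,
    show s q = X.presheaf.map (homOfLE (hWV q)).op v from (hv q).symm, res_res]

end Groth.Agent.H23Para
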