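import Groth.Agent.H23Para.Restrict

/-!
# Injectivity of restrictions of sections of invertible modules
-/

set_option autoImplicit false
set_option linter.style.haveILetI false

noncomputable section

universe u

open CategoryTheory CategoryTheory.Limits AlgebraicGeometry Opposite TopologicalSpace

namespace Groth.Agent.H23Para

variable {X : Scheme.{u}}

/-- Restriction of sections of `M` from every open `V` to `V ⊓ U` is injective. -/
def SecInj (U : X.Opens) (M : X.Modules) : Prop :=
  ∀ V : X.Opens, Function.Injective (M.presheaf.map (homOfLE (inf_le_left : V ⊓ U ≤ V)).op)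

theorem injective_map_congr (M : X.Modules) {A A' B B' : X.Opens} (hA : A = A') (hB : B = B') (h : A ≤ B)
    (h' : A' ≤ B') :
    Function.Injective (M.presheaf.map (homOfLE h).op) ↔ Function.Injective (M.presheaf.map (homOfLE h').op) := by
  subst hA hB
  rfl

theorem SecInj.of_iso {U : X.Opens} {M N : X.Modules} (e : M ≅ N) (h : SecInj U M) : SecInj U N := by
  intro V s t hst
  have hn : ∀ x, M.presheaf.map (homOfLE (inf_le_left : V ⊓ U ≤ V)).op (e.inv.app V x) =
      e.inv.app (V ⊓ U) (N.presheaf.map (homOfLE (inf_le_left : V ⊓ U ≤ V)).op x) := fun x =>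
    (ConcreteCategory.congr_hom (e.inv.mapPresheaf.naturality (homOfLE (inf_le_left : V ⊓ U ≤ V)).op) x).symm
  have h1 : e.inv.app V s = e.inv.app V t := h V (by rw [hn, hn, hst])
  have h2 := congrArg (e.hom.app V) h1
  rwa [← ConcreteCategory.comp_apply, ← ConcreteCategory.comp_apply, ← Scheme.Modules.Hom.comp_app,
    Iso.inv_hom_id, Scheme.Modules.Hom.id_app] at h2

theorem SecInj.restrict {W : Scheme.{u}} (f : W ⟶ X) [IsOpenImmersion f] {U : X.Opens} {M : X.Modules}
    (h : SecInj U M) : SecInj (f ⁻¹ᵁ U) (M.restrict f) := fun V =>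
  (injective_map_congr M (image_inf_preimage f V U) rfl
    (Scheme.Hom.image_mono _ inf_le_left) inf_le_left).mpr (h (f ''ᵁ V))

theorem injective_of_restrict {W : Scheme.{u}} (f : W ⟶ X) [IsOpenImmersion f] {U : X.Opens} {M : X.Modules}
    (h : SecInj (f ⁻¹ᵁ U) (M.restrict f)) (V : X.Opens) (hV : V ≤ f.opensRange) :
    Function.Injective (M.presheaf.map (homOfLE (inf_le_left : V ⊓ U ≤ V)).op) :=
  (injective_map_congr M ((image_inf_preimage f _ U).trans (by
    rw [Scheme.Hom.image_preimage_eq_opensRange_inf, inf_eq_right.mpr hV]))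
    (by rw [Scheme.Hom.image_preimage_eq_opensRange_inf, inf_eq_right.mpr hV])
    (Scheme.Hom.image_mono _ inf_le_left) inf_le_left).mp (h (f ⁻¹ᵁ V))

/-- Invertible modules inherit injectivity of restrictions from the structure sheaf. -/
theorem secInj_of_isInvertible {U : X.Opens} (h : SecInj U (Coh.structureModule X)) {M : X.Modules}
    (hM : PicF.IsInvertible M) : SecInj U M := by
  intro V s t hst
  choose W hxW e using hM
  apply TopCat.Sheaf.eq_of_locally_eq' (⟨M.presheaf, M.isSheaf⟩ : TopCat.Sheaf Ab.{u} X) (fun i : X => V ⊓ W i) V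
    (fun i => homOfLE inf_le_left) (fun x hx => Opens.mem_iSup.mpr ⟨x, hx, hxW x⟩)
  intro i
  refine injective_of_restrict (W i).ι (SecInj.of_iso (e i).some.symm
    (SecInj.of_iso (Scheme.Modules.restrictUnitIso (W i).ι) (h.restrict (W i).ι))) (V ⊓ W i)
    (by rw [Scheme.Opens.opensRange_ι]; exact inf_le_right) ?_
  have hst' := congrArg (M.presheaf.map (homOfLE (inf_le_inf_right U inf_le_left : V ⊓ W i ⊓ U ≤ V ⊓ U)).op) hst
  simp only [← ConcreteCategory.comp_apply, ← Functor.map_comp] at hst'
  change M.presheaf.map _ (M.presheaf.map _ s) = M.presheaf.map _ (M.presheaf.map _ t)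
  rw [← ConcreteCategory.comp_apply, ← ConcreteCategory.comp_apply, ← Functor.map_comp]
  exact hst'

end Groth.Agent.H23Para
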