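import Groth.Agent.H23Para.StalkPair
import Groth.Agent.H23Para.Criterion
import Groth.Agent.H29Ref.RefPow

/-!
# Parafactoriality from the local rings
-/

set_option autoImplicit false
set_option linter.style.haveILetI false

noncomputable section

universe u

open CategoryTheory CategoryTheory.Limits AlgebraicGeometry Opposite TopologicalSpace
open Groth.Agent.H11Tilde

namespace Groth.Agent.H23Para

section BijOn

variable {R : CommRingCat.{u}}

/-- A section of the structure module as a function. -/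
abbrev fn {X : Scheme.{u}} {U : X.Opens} (x : Γ(Coh.structureModule X, U)) : Γ(X, U) := x

/-- `θ` is bijective after inverting `b`. -/
def BijOn {N : Type u} [AddCommGroup N] [Module R N] (b : R) (θ : N →ₗ[R] R) : Prop :=
  (∀ n, θ n = 0 → ∃ j : ℕ, b ^ j • n = 0) ∧ ∀ r : R, ∃ (j : ℕ) (n : N), θ n = b ^ j * r

/-- A sheaf map which is bijective on global sections after inverting `b` is bijective below `D(b)`. -/
theorem bijective_app_of_bijOn {K : (Spec R).Modules} [K.IsQuasicoherent] (φ : K ⟶ Coh.structureModule (Spec R))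
    (θ : Γ(K, ⊤) →ₗ[R] R) (hθ : ∀ n, φ.app ⊤ n = (cst R ⊤ (θ n) : Γ(Spec R, ⊤))) {b c : R} (h : BijOn b θ)
    (hcb : Db c ≤ Db b) : Function.Bijective (φ.app (Db c)) := by
  obtain ⟨m, e, he⟩ : ∃ (m : ℕ) (e : R), c ^ m = b * e := by
    obtain ⟨m, hm⟩ := (PrimeSpectrum.basicOpen_le_basicOpen_iff c b).mp hcb
    obtain ⟨e, he⟩ := Ideal.mem_span_singleton.mp hm
    exact ⟨m, e, he⟩
  have hres : ∀ n, φ.app (Db c) (K.presheaf.map (homOfLE (le_top : Db c ≤ ⊤)).op n) =
      (cst R (Db c) (θ n) : Γ(Spec R, Db c)) := fun n => by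
    rw [app_map_apply, hθ]
    exact res_smul_cst _ _
  have hlin : ∀ (r : R) (x : Γ(K, Db c)),
      φ.app (Db c) (r • x) = (cst R (Db c) r * fn (φ.app (Db c) x) : Γ(Spec R, Db c)) := fun r x => by
    rw [smul_eq_cst_smul, Scheme.Modules.Hom.app_smul]
    rfl
  constructor
  · intro x y hxy
    rw [← sub_eq_zero]
    have hz : φ.app (Db c) (x - y) = 0 := by rw [map_sub, hxy, sub_self]
    generalize x - y = z at hz ⊢
    obtain ⟨i, t, ht⟩ := exists_pow_smul_eq_map K c z
    have h0 : cst R (Db c) (θ t) = 0 := by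
      have := hres t
      rw [ht, hlin, hz] at this
      exact this.symm.trans (mul_zero (cst R (Db c) (c ^ i)))
    obtain ⟨k, hk⟩ := exists_pow_mul_eq_zero_of_cst c _ h0
    obtain ⟨j, hj⟩ := h.1 (c ^ k • t) (by rw [map_smul, smul_eq_mul, hk])
    have h1 : (c ^ (m * j) * c ^ k) • t = 0 := by
      rw [pow_mul, he, mul_pow, mul_comm (b ^ j) (e ^ j), mul_assoc, mul_smul, mul_smul, hj, smul_zero]
    have h2 := congrArg (K.presheaf.map (homOfLE (le_top : Db c ≤ ⊤)).op) h1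
    rw [res_smul_Spec, map_zero, ht, smul_smul, smul_eq_cst_smul, map_mul, map_mul, map_pow, map_pow, map_pow] at h2
    exact ((((isUnit_cst le_rfl).pow (m * j)).mul ((isUnit_cst le_rfl).pow k)).mul
      ((isUnit_cst le_rfl).pow i)).smul_eq_zero.mp h2
  · intro y
    obtain ⟨i, a, ha⟩ := exists_frac c (fn y)
    obtain ⟨j, n, hn⟩ := h.2 a
    have hu : IsUnit (cst R (Db c) b ^ j * cst R (Db c) c ^ i) :=
      ((isUnit_cst hcb).pow j).mul ((isUnit_cst le_rfl).pow i)
    obtain ⟨v, hv⟩ := hu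
    refine ⟨(↑v⁻¹ : Γ(Spec R, Db c)) • K.presheaf.map (homOfLE (le_top : Db c ≤ ⊤)).op n, ?_⟩
    rw [Scheme.Modules.Hom.app_smul, hres, hn]
    show (↑v⁻¹ : Γ(Spec R, Db c)) * cst R (Db c) (b ^ j * a) = y
    rw [map_mul, map_pow, ha]
    show (↑v⁻¹ : Γ(Spec R, Db c)) * (cst R (Db c) b ^ j * (cst R (Db c) c ^ i * fn y)) = fn y
    rw [← mul_assoc (cst R (Db c) b ^ j), ← hv, ← mul_assoc, Units.inv_mul, one_mul]

theorem app_top_lift {K : (Spec R).Modules} [K.IsQuasicoherent]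
    (θ : ((modulesSpecToSheaf.obj K).presheaf.obj (op ⊤) : ModuleCat R) ⟶ ModuleCat.of R R) (n : Γ(K, ⊤)) :
    ((@asIso _ _ _ _ K.fromTildeΓ (Scheme.Modules.isIso_fromTildeΓ_of_isQuasicoherent (R := R) K)).inv ≫
      tilde.map θ ≫ (tildeSelf (R := R)).hom).app ⊤ n = (cst R ⊤ (θ.hom n) : Γ(Spec R, ⊤)) := by
  haveI := Scheme.Modules.isIso_fromTildeΓ_of_isQuasicoherent (R := R) K
  let t : Γ(tilde ((modulesSpecToSheaf.obj K).presheaf.obj (op ⊤)), ⊤) := (tilde.toOpen _ ⊤).hom n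
  have h1 : K.fromTildeΓ.app ⊤ t = n := by
    refine (congr($(Scheme.Modules.toOpen_fromTildeΓ_app K ⊤).hom n)).trans ?_
    rw [show (homOfLE (le_top : (⊤ : (Spec R).Opens) ≤ ⊤)).op = 𝟙 _ from rfl]
    exact congr($((modulesSpecToSheaf.obj K).obj.map_id (op ⊤)).hom n)
  have h2 : (asIso K.fromTildeΓ).inv.app ⊤ n = t := by
    conv_lhs => rw [← h1]
    exact congr(Scheme.Modules.Hom.app $((asIso K.fromTildeΓ).hom_inv_id) ⊤ t)
  refine (congrArg (fun z => (tilde.map θ ≫ (tildeSelf (R := R)).hom).app ⊤ z) h2).trans ?_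
  exact (congr($(tilde.toOpen_map_app θ ⊤).hom n))

end BijOn

/-- A map of modules bijective on a basis at `x` is bijective on stalks at `x`. -/
theorem bijective_stalkMap_of_basis {X : Scheme.{u}} {M N : X.Modules} (φ : M ⟶ N) (x : X)
    (h : ∀ O : X.Opens, x ∈ O → ∃ B : X.Opens, x ∈ B ∧ B ≤ O ∧ Function.Bijective (φ.app B)) :
    Function.Bijective (RefHull.stalkMapₗ φ x) := by
  constructor
  · intro a b hab
    obtain ⟨O, hxO, s, rfl⟩ := TopCat.Presheaf.exists_germ_eq M.presheaf a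
    obtain ⟨O', hxO', s', rfl⟩ := TopCat.Presheaf.exists_germ_eq M.presheaf b
    rw [RefHull.stalkMapₗ_germ, RefHull.stalkMapₗ_germ] at hab
    obtain ⟨T, hxT, i, j, hT⟩ := TopCat.Presheaf.germ_eq N.presheaf x hxO hxO' _ _ hab
    obtain ⟨B, hxB, hBT, hB⟩ := h T hxT
    have heq : M.presheaf.map (homOfLE (hBT.trans i.le)).op s = M.presheaf.map (homOfLE (hBT.trans j.le)).op s' := by
      apply hB.1
      rw [app_map_apply, app_map_apply]
      have := congrArg (N.presheaf.map (homOfLE hBT).op) hT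
      rw [show i = homOfLE i.le from rfl, show j = homOfLE j.le from rfl, H10Coh.mres_mres, H10Coh.mres_mres] at this
      exact this
    have := congrArg (M.presheaf.germ B x hxB) heq
    rwa [TopCat.Presheaf.germ_res_apply, TopCat.Presheaf.germ_res_apply] at this
  · intro c
    obtain ⟨O, hxO, s, rfl⟩ := TopCat.Presheaf.exists_germ_eq N.presheaf c
    obtain ⟨B, hxB, hBO, hB⟩ := h O hxO
    obtain ⟨m, hm⟩ := hB.2 (N.presheaf.map (homOfLE hBO).op s)
    refine ⟨M.presheaf.germ B x hxB m, ?_⟩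
    rw [RefHull.stalkMapₗ_germ, hm, TopCat.Presheaf.germ_res_apply]

/-- Near `p`, a module that is invertible off the closure of `p` and trivial on the punctured
spectrum of the local ring at `p` is trivial off the closure of `p`. -/
theorem exists_nhd_trivial {R S : CommRingCat.{u}} [IsNoetherianRing R] [IsLocalRing S] [IsNoetherianRing S]
    (φ : R ⟶ S) (p : PrimeSpectrum R) (hp : PrimeSpectrum.comap φ.hom (IsLocalRing.closedPoint S) = p)
    (hloc : letI := φ.hom.toAlgebra; IsLocalization.AtPrime S p.asIdeal)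
    (hd : (2 : ℕ∞) ≤ LocCoh.depth S S) (hpic : ParaF.PicTrivial (FEt.puncturedSpec S : Scheme.{u}))
    {W : (Spec R).Opens} (hW : ∀ q : PrimeSpectrum R, q.asIdeal ≤ p.asIdeal → q ≠ p → (q : (Spec R : Scheme.{u})) ∈ W)
    (hpW : p ∉ W) (L : (W : Scheme.{u}).Modules) (hL : PicF.IsInvertible L) :
    ∃ h : R, h ∉ p.asIdeal ∧
      Nonempty (L.restrict ((Spec R).homOfLE (inf_le_right : Db (R := R) h ⊓ W ≤ W)) ≅ Coh.structureModule _) := by
  letI : Algebra R S := φ.hom.toAlgebra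
  haveI : IsLocalization.AtPrime S p.asIdeal := hloc
  let Pu : (Spec S).Opens := FEt.puncturedSpec S
  let f : Spec S ⟶ Spec R := Spec.map φ
  obtain ⟨K, hK, ⟨eK⟩, -⟩ := Groth.Agent.H29Ref.exists_coh_extension W L (H11Ample.isCoh_of_isInvertible hL)
  haveI : K.IsQuasicoherent := hK.1
  let N : ModuleCat R := (modulesSpecToSheaf.obj K).presheaf.obj (op ⊤)
  haveI : Module.Finite Γ(Spec R, ⊤) Γ(K, ⊤) := H10Coh.finite_sections K hK.2 (isAffineOpen_top _)
  haveI : Module.Finite R N := H10Coh.finite_ΓSpec K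
  let M : ModuleCat S := (ModuleCat.extendScalars φ.hom).obj N
  let P : (Spec S).Modules := tilde M
  let ePull : (Scheme.Modules.pullback f).obj K ≅ P :=
    (Scheme.Modules.pullback f).mapIso (@asIso _ _ _ _ K.fromTildeΓ
      (Scheme.Modules.isIso_fromTildeΓ_of_isQuasicoherent (R := R) K)).symm ≪≫
      (H17.OmegaAffine.pullbackTildeIso φ).app N
  let ι : N →ₗ[R] TensorProduct R S N := TensorProduct.mk R S N 1
  haveI hι : IsLocalizedModule p.asIdeal.primeCompl ι :=
    (isLocalizedModule_iff_isBaseChange p.asIdeal.primeCompl S ι).mpr (TensorProduct.isBaseChange R N S)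
  -- a trivialisation on the punctured spectrum
  have hPW : Pu ≤ f ⁻¹ᵁ W := fun z hz => by
    refine hW (PrimeSpectrum.comap φ.hom z) ?_ fun h => hz ?_
    · rw [← hp]
      exact Ideal.comap_mono (IsLocalRing.le_maximalIdeal z.2.ne_top)
    · have h1 : z.asIdeal.under R = p.asIdeal := congrArg PrimeSpectrum.asIdeal h
      have h2 : (IsLocalRing.closedPoint S).asIdeal.under R = p.asIdeal := congrArg PrimeSpectrum.asIdeal hp
      apply PrimeSpectrum.ext
      rw [← IsLocalization.map_under p.asIdeal.primeCompl S z.asIdeal, h1, ← h2,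
        IsLocalization.map_under p.asIdeal.primeCompl S]
  let eP0 : P.restrict (f ⁻¹ᵁ W).ι ≅ (Scheme.Modules.pullback (f ∣_ W)).obj L :=
    (Scheme.Modules.restrictFunctor (f ⁻¹ᵁ W).ι).mapIso ePull.symm ≪≫
      (H16Derived.KFlat.Stalk.pullbackRestrictIso f W).app K ≪≫ (Scheme.Modules.pullback (f ∣_ W)).mapIso eK
  let a : (Pu : Scheme.{u}) ⟶ (f ⁻¹ᵁ W : Scheme.{u}) := (Spec S).homOfLE hPW
  let eP1 := restrictCompIso a (f ⁻¹ᵁ W).ι Pu.ι (Scheme.homOfLE_ι _ _) P ≪≫ (Scheme.Modules.restrictFunctor a).mapIso eP0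
  obtain ⟨eP⟩ := hpic _ (H11Tilde.isInvertible_of_iso eP1.symm
    (isInvertible_restrict a (H11Ample.isInvertible_pullback (f ∣_ W) hL)))
  -- a map to the structure sheaf
  have hfb : FunBij Pu := by
    refine funBij_of_depth Pu fun x hx => ?_
    have hx' : x = IsLocalRing.closedPoint S := not_not.mp hx
    have e : S ≃+* (Spec S).presheaf.stalk x := by
      rw [hx']
      exact (atMaximal (A := S)).trans (stalkEquiv (A := S) (IsLocalRing.closedPoint S))
    exact hd.trans_eq (H05EGA4.depth_eq_of_ringEquiv e)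
  obtain ⟨Φ, hΦ⟩ := (bijective_restrict_map Pu.ι P (L' := Coh.structureModule (Spec S))
    (by rw [Scheme.Opens.opensRange_ι]; exact hfb)).2 (eP.hom ≫ (Scheme.Modules.restrictUnitIso Pu.ι).inv)
  haveI : IsIso ((Scheme.Modules.restrictFunctor Pu.ι).map Φ) := by
    beta_reduce at hΦ
    rw [hΦ]
    infer_instance
  have hΦbij : ∀ g : S, g ∈ IsLocalRing.maximalIdeal S → Function.Bijective (Φ.app (Db (R := S) g)) := by
    intro g hg
    have hle : Db (R := S) g ≤ Pu := fun z hz hze => hz ((hze : z = _) ▸ hg)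
    have h1 := ConcreteCategory.bijective_of_isIso
      (((Scheme.Modules.restrictFunctor Pu.ι).map Φ).app (Pu.ι ⁻¹ᵁ Db (R := S) g))
    have heq : Pu.ι ''ᵁ (Pu.ι ⁻¹ᵁ Db (R := S) g) = Db (R := S) g := by
      rw [Scheme.Hom.image_preimage_eq_opensRange_inf, Scheme.Opens.opensRange_ι, inf_eq_right.mpr hle]
    change Function.Bijective (Φ.app (Pu.ι ''ᵁ (Pu.ι ⁻¹ᵁ Db (R := S) g))) at h1
    rw [← heq]
    exact h1
  let ΓS : Γ(Spec S, ⊤) →+* S := (Scheme.ΓSpecIso S).hom.hom
  let top : TensorProduct R S N → Γ(P, ⊤) := fun m => (tilde.toOpen M ⊤).hom m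
  have hcstS : ∀ r : S, cst S ⊤ r = (Scheme.ΓSpecIso S).inv r := fun r =>
    congr($((Spec S).presheaf.map_id (op ⊤)) ((Scheme.ΓSpecIso S).inv r))
  let Θ : TensorProduct R S N →+ S :=
    { toFun := fun m => ΓS (Φ.app ⊤ (top m) : Γ(Spec S, ⊤))
      map_zero' := by
        show ΓS (Φ.app ⊤ ((tilde.toOpen M ⊤).hom 0)) = 0
        erw [map_zero, map_zero, map_zero]
      map_add' := fun x y => by
        show ΓS (Φ.app ⊤ ((tilde.toOpen M ⊤).hom (x + y))) = _
        erw [map_add, map_add, map_add] }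
  have hΘsmul : ∀ (r : S) (m : TensorProduct R S N), Θ (r • m) = r * Θ m := fun r m => by
    show ΓS (Φ.app ⊤ (top (r • m))) = r * ΓS (Φ.app ⊤ (top m))
    have h1 : top (r • m) = r • top m := map_smul (tilde.toOpen M ⊤).hom r m
    rw [h1, smul_eq_cst_smul, Scheme.Modules.Hom.app_smul]
    show ΓS (cst S ⊤ r * fn (Φ.app ⊤ (top m))) = _
    rw [map_mul, hcstS]
    exact congrArg (· * _) (congr($((Scheme.ΓSpecIso S).inv_hom_id) r))
  have hΘapp : ∀ m, (Φ.app ⊤ (top m) : Γ(Spec S, ⊤)) = cst S ⊤ (Θ m) := fun m => by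
    rw [hcstS]
    exact (congr($((Scheme.ΓSpecIso S).hom_inv_id) (Φ.app ⊤ (top m) : Γ(Spec S, ⊤)))).symm
  let θ₀ : N →ₗ[R] S :=
    { toFun := fun n => Θ (ι n)
      map_add' := fun x y => by rw [map_add, map_add]
      map_smul' := fun r n => by
        rw [map_smul, ← algebraMap_smul S r (ι n), hΘsmul, RingHom.id_apply, Algebra.smul_def] }
  haveI : Module.FinitePresentation R N := Module.finitePresentation_of_finite R N
  obtain ⟨θ, u, hθ⟩ := Module.FinitePresentation.exists_lift_of_isLocalizedModule p.asIdeal.primeCompl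
    (Algebra.linearMap R S) θ₀
  have hθ' : ∀ n, algebraMap R S (θ n) = algebraMap R S (u : R) * Θ (ι n) := fun n => by
    have h1 := LinearMap.congr_fun hθ n
    simp only [LinearMap.comp_apply, Algebra.linearMap_apply, LinearMap.smul_apply, Submonoid.smul_def] at h1
    rw [h1, Algebra.smul_def]
    rfl
  -- `θ` is bijective near the proper generisations of `p`
  have hgen : ∀ q : PrimeSpectrum R, q.asIdeal ≤ p.asIdeal → q ≠ p → ∃ b : R, b ∉ q.asIdeal ∧ BijOn b θ := by
    intro q hqp hne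
    have hdisj : Disjoint (p.asIdeal.primeCompl : Set R) (q.asIdeal : Set R) :=
      Set.disjoint_left.mpr fun a ha ha' => ha (hqp ha')
    let q' : PrimeSpectrum S := ⟨q.asIdeal.map (algebraMap R S),
      IsLocalization.isPrime_of_isPrime_disjoint p.asIdeal.primeCompl S _ q.2 hdisj⟩
    have hq' : PrimeSpectrum.comap φ.hom q' = q :=
      PrimeSpectrum.ext (IsLocalization.under_map_of_isPrime_disjoint p.asIdeal.primeCompl S q.2 hdisj)
    obtain ⟨g, hgm, hgq⟩ : ∃ g ∈ IsLocalRing.maximalIdeal S, g ∉ q'.asIdeal := by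
      refine SetLike.not_le_iff_exists.mp fun hle => hne (hq'.symm.trans ((congrArg _ ?_).trans hp))
      exact PrimeSpectrum.ext (((IsLocalRing.maximalIdeal.isMaximal S).eq_of_le q'.2.ne_top hle).symm)
    have hbij := hΦbij g hgm
    have hres : ∀ m, Φ.app (Db (R := S) g) (P.presheaf.map (homOfLE (le_top : Db (R := S) g ≤ ⊤)).op (top m)) =
        (cst S (Db (R := S) g) (Θ m) : Γ(Spec S, Db (R := S) g)) := fun m => by
      rw [app_map_apply, hΘapp]
      exact res_smul_cst _ _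
    have hkill : ∀ m, Θ m = 0 → ∃ i : ℕ, g ^ i • m = 0 := fun m hm => by
      have h0 : P.presheaf.map (homOfLE (le_top : Db (R := S) g ≤ ⊤)).op (top m) = 0 := by
        apply hbij.1
        rw [hres, hm, map_zero, map_zero]
        rfl
      obtain ⟨i, hi⟩ := exists_pow_smul_eq_zero_of_res P g (top m) h0
      refine ⟨i, (ConcreteCategory.bijective_of_isIso (tilde.isoTop M).hom).1 ?_⟩
      exact ((map_smul (tilde.toOpen M ⊤).hom (g ^ i) m).trans hi).trans (map_zero (tilde.toOpen M ⊤).hom).symm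
    obtain ⟨mz, i₀, hm⟩ : ∃ (mz : TensorProduct R S N) (i : ℕ), Θ mz = g ^ i := by
      obtain ⟨y, hy⟩ := hbij.2 (1 : Γ(Spec S, Db (R := S) g))
      obtain ⟨i, t, ht⟩ := exists_pow_smul_eq_map P g y
      obtain ⟨mt, hmt⟩ := (ConcreteCategory.bijective_of_isIso (tilde.isoTop M).hom).2 t
      have hmt' : top mt = t := hmt
      have h1 := hres mt
      rw [hmt', ht, smul_eq_cst_smul, Scheme.Modules.Hom.app_smul, hy] at h1
      have h2 : cst S (Db (R := S) g) (Θ mt - g ^ i) = 0 := by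
        rw [map_sub, sub_eq_zero, ← h1]
        exact (mul_one _)
      obtain ⟨k, hk⟩ := exists_pow_mul_eq_zero_of_cst g _ h2
      exact ⟨g ^ k • mt, k + i, by erw [hΘsmul]; rw [pow_add, ← sub_eq_zero, ← mul_sub, hk]⟩
    obtain ⟨a₀, σ, hgas⟩ := IsLocalization.exists_mk'_eq p.asIdeal.primeCompl g
    have ha₀ : a₀ ∉ q.asIdeal := fun ha => by
      have : g * algebraMap R S (σ : R) ∈ q'.asIdeal := by
        rw [← hgas, IsLocalization.mk'_spec]
        exact Ideal.mem_map_of_mem _ ha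
      exact hgq ((q'.2.mem_or_mem this).resolve_right fun h =>
        q'.2.ne_top (Ideal.eq_top_of_isUnit_mem _ h (IsLocalization.map_units S σ)))
    have hP : ∀ v : p.asIdeal.primeCompl, (v : R) ∉ q.asIdeal := fun v hv => v.2 (hqp hv)
    classical
    obtain ⟨G, hG⟩ := IsNoetherian.noetherian (LinearMap.ker θ)
    have hker : ∀ n ∈ LinearMap.ker θ, ∃ c : R, c ∉ q.asIdeal ∧ c • n = 0 := fun n hn => by
      have hθn : θ n = 0 := hn
      have h1 : Θ (ι n) = 0 := ((IsLocalization.map_units S u).mul_right_eq_zero).mp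
        (by rw [← hθ', hθn, map_zero])
      obtain ⟨i, hi⟩ := hkill _ h1
      have h2 : ι (a₀ ^ i • n) = 0 := by
        rw [map_smul, ← algebraMap_smul S (a₀ ^ i), map_pow, ← IsLocalization.mk'_spec S a₀ σ, hgas, mul_pow,
          mul_comm, mul_smul, hi, smul_zero]
      obtain ⟨v, hv⟩ := (IsLocalizedModule.eq_zero_iff p.asIdeal.primeCompl ι).mp h2
      exact ⟨(v : R) * a₀ ^ i, q.2.mul_notMem (hP v) (fun h => ha₀ (q.2.mem_of_pow_mem i h)),
        by rw [mul_smul]; exact hv⟩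
    choose! c hcq hcn using hker
    obtain ⟨⟨nz, t⟩, hnt⟩ := IsLocalizedModule.surj p.asIdeal.primeCompl ι mz
    rw [Submonoid.smul_def] at hnt
    dsimp only at hnt
    have hb1 : algebraMap R S ((σ : R) ^ i₀ * θ nz) = algebraMap R S ((u : R) * t * a₀ ^ i₀) := by
      rw [map_mul, hθ', ← hnt, ← algebraMap_smul S (t : R) mz, hΘsmul, hm]
      simp only [map_mul, map_pow]
      rw [← IsLocalization.mk'_spec S a₀ σ, hgas, mul_pow]
      ring
    obtain ⟨w, hw⟩ := (IsLocalization.eq_iff_exists p.asIdeal.primeCompl S).mp hb1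
    let d : R := (w : R) * ((u : R) * t * a₀ ^ i₀)
    have hdθ : θ (((w : R) * (σ : R) ^ i₀) • nz) = d := by rw [map_smul, smul_eq_mul, mul_assoc]; exact hw
    refine ⟨d * ∏ n ∈ G, c n, q.2.mul_notMem (q.2.mul_notMem (hP w) (q.2.mul_notMem (q.2.mul_notMem (hP u) (hP t))
      fun h => ha₀ (q.2.mem_of_pow_mem i₀ h))) (fun h => ?_), fun n hn => ⟨1, ?_⟩, fun r => ?_⟩
    · obtain ⟨n, hn, hnq⟩ := Ideal.IsPrime.prod_mem_iff.mp h
      exact hcq n (hG ▸ Submodule.subset_span hn) hnq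
    · rw [pow_one, mul_smul]
      have hker' : LinearMap.ker θ ≤ LinearMap.ker ((∏ n ∈ G, c n) • (LinearMap.id : N →ₗ[R] N)) := by
        rw [← hG, Submodule.span_le]
        intro n hn
        obtain ⟨e, he⟩ := Finset.dvd_prod_of_mem c hn
        show (∏ n ∈ G, c n) • n = 0
        rw [he, mul_comm, mul_smul, hcn n (hG ▸ Submodule.subset_span hn), smul_zero]
      rw [show (∏ n ∈ G, c n) • n = 0 from hker' hn, smul_zero]
    · refine ⟨1, ((∏ n ∈ G, c n) * r) • (((w : R) * (σ : R) ^ i₀) • nz), ?_⟩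
      rw [map_smul, hdθ, smul_eq_mul, pow_one]
      ring
  -- a neighbourhood
  let I : Ideal R := Ideal.span {b | BijOn b θ}
  obtain ⟨h, hhp, hh⟩ : ∃ h ∉ p.asIdeal, ∀ q : PrimeSpectrum R, I ≤ q.asIdeal → h ∉ q.asIdeal → p.asIdeal ≤ q.asIdeal := by
    classical
    have hfin := Ideal.finite_minimalPrimes_of_isNoetherianRing R I
    have : ∀ q ∈ I.minimalPrimes, ¬ q ≤ p.asIdeal → ∃ c ∈ q, c ∉ p.asIdeal := fun q _ hq => SetLike.not_le_iff_exists.mp hq
    choose! c hcq hcp using this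
    let Bad := hfin.toFinset.filter fun q => ¬ q ≤ p.asIdeal
    refine ⟨∏ q ∈ Bad, c q, fun hmem => ?_, fun q hIq hhq => ?_⟩
    · obtain ⟨r, hr, hrp⟩ := Ideal.IsPrime.prod_mem_iff.mp hmem
      rw [Finset.mem_filter, hfin.mem_toFinset] at hr
      exact hcp r hr.1 hr.2 hrp
    · obtain ⟨r, hrmin, hrq⟩ := Ideal.exists_minimalPrimes_le hIq
      have hrp : r ≤ p.asIdeal := by
        by_contra hrp
        refine hhq (hrq ?_)
        exact Ideal.mem_of_dvd _ (Finset.dvd_prod_of_mem c (Finset.mem_filter.mpr ⟨hfin.mem_toFinset.mpr hrmin, hrp⟩))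
          (hcq r hrmin hrp)
      have heq : (⟨r, hrmin.1.1⟩ : PrimeSpectrum R) = p := by
        by_contra hne
        obtain ⟨b, hb, hbij⟩ := hgen ⟨r, hrmin.1.1⟩ hrp hne
        exact hb (hrmin.1.2 (Ideal.subset_span hbij))
      exact le_of_eq_of_le (congrArg PrimeSpectrum.asIdeal heq).symm hrq
  refine ⟨h, hhp, ?_⟩
  let Z : (Spec R).Opens := Db (R := R) h ⊓ W
  let θ' : N ⟶ ModuleCat.of R R := ModuleCat.ofHom (X := N) θ
  let Φ' : K ⟶ Coh.structureModule (Spec R) :=
    (@asIso _ _ _ _ K.fromTildeΓ (Scheme.Modules.isIso_fromTildeΓ_of_isQuasicoherent (R := R) K)).inv ≫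
      tilde.map θ' ≫ (tildeSelf (R := R)).hom
  have hΦ' : ∀ n, Φ'.app ⊤ n = (cst R ⊤ (θ n) : Γ(Spec R, ⊤)) := fun n => app_top_lift θ' n
  haveI : IsIso ((Scheme.Modules.restrictFunctor Z.ι).map Φ') := by
    refine H29Ref.isIso_restrict_of_bijective Z Φ' fun x hx => ?_
    obtain ⟨hxh, hxW⟩ := Opens.mem_inf.mp hx
    obtain ⟨b, hbx, hb⟩ : ∃ b, b ∉ x.asIdeal ∧ BijOn b θ := by
      by_contra hcon
      push Not at hcon
      have hpx := hh x (Ideal.span_le.mpr fun b hb => by_contra fun hbx => hcon b hbx hb) hxh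
      exact hpW (((PrimeSpectrum.le_iff_specializes p x).mp hpx).mem_open W.2 hxW)
    exact bijective_stalkMap_of_basis Φ' x fun O hxO => by
      obtain ⟨_, ⟨c, rfl⟩, hxc, hcO⟩ := PrimeSpectrum.isTopologicalBasis_basic_opens.exists_subset_of_mem_open
        (show x ∈ (O ⊓ Db (R := R) b : (Spec R).Opens) from ⟨hxO, hbx⟩) (O ⊓ Db (R := R) b).2
      exact ⟨Db c, hxc, fun z hz => (hcO hz).1, bijective_app_of_bijOn Φ' θ hΦ' hb fun z hz => (hcO hz).2⟩
  exact ⟨(Scheme.Modules.restrictFunctor _).mapIso eK.symm ≪≫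
    (restrictCompIso _ W.ι Z.ι (Scheme.homOfLE_ι _ _) K).symm ≪≫
    asIso ((Scheme.Modules.restrictFunctor Z.ι).map Φ') ≪≫ Scheme.Modules.restrictUnitIso Z.ι⟩

end Groth.Agent.H23Para
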