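import Groth.Agent.H23Para.Principal
import Groth.Agent.H11Tilde.AffineInvertible
import Groth.Agent.H11Tilde.Local
import Groth.Agent.H17.OmegaAffine
import Groth.Agent.H16Derived.KFlat.FinLocFree
import Groth.Agent.H10Coh.FinType2
import Groth.Agent.H29Ref.DenseExt

/-!
# Local rings of parafactorial pairs
-/

set_option autoImplicit false
set_option linter.style.haveILetI false

noncomputable section

universe u

open CategoryTheory CategoryTheory.Limits AlgebraicGeometry Opposite TopologicalSpace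
open Groth.Agent.H11Tilde

namespace Groth.Agent.H23Para

section algebra

variable {R S M : Type u} [CommRing R] [CommRing S] [Algebra R S] (P : Submonoid R) [IsLocalization P S]
  [AddCommGroup M] [Module S M] [Module R M] [IsScalarTower R S M]

/-- Finite modules over a localisation descend to finite modules. -/
theorem exists_lattice [Module.Finite S M] : ∃ N : Submodule R M, N.FG ∧ IsLocalizedModule P N.subtype := by
  obtain ⟨G, hG⟩ := Module.Finite.fg_top (R := S) (M := M)
  refine ⟨Submodule.span R (G : Set M), ⟨G, rfl⟩, ?_⟩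
  refine ⟨fun s => ?_, fun m => ?_, fun {x₁ x₂} h => ⟨1, congrArg _ (Subtype.ext h)⟩⟩
  · rw [Module.End.isUnit_iff]
    obtain ⟨v, hv⟩ := IsLocalization.map_units S s
    refine Eq.mpr (congrArg Function.Bijective (funext fun m => ?_))
      (Function.bijective_iff_has_inverse.mpr ⟨fun m => (↑v⁻¹ : S) • m, fun m => ?_, fun m => ?_⟩ :
        Function.Bijective fun m : M => (v : S) • m)
    · show (s : R) • m = _
      rw [hv, algebraMap_smul]
    · show (↑v⁻¹ : S) • (v : S) • m = m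
      rw [smul_smul, Units.inv_mul, one_smul]
    · show (v : S) • (↑v⁻¹ : S) • m = m
      rw [smul_smul, Units.mul_inv, one_smul]
  · have hm : m ∈ Submodule.span S (G : Set M) := hG ▸ trivial
    induction hm using Submodule.span_induction with
    | mem x hx => exact ⟨⟨⟨x, Submodule.subset_span hx⟩, 1⟩, one_smul _ x⟩
    | zero => exact ⟨⟨0, 1⟩, smul_zero _⟩
    | add x y _ _ hx hy =>
      obtain ⟨⟨n, s⟩, hn⟩ := hx
      obtain ⟨⟨n', s'⟩, hn'⟩ := hy
      refine ⟨⟨(s' : R) • n + (s : R) • n', s * s'⟩, ?_⟩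
      simp only [Submonoid.smul_def, Submodule.subtype_apply] at hn hn' ⊢
      rw [Submonoid.coe_mul, smul_add, mul_comm, mul_smul, hn, mul_comm, mul_smul, hn']
      rfl
    | smul c x _ hx =>
      obtain ⟨⟨n, s⟩, hn⟩ := hx
      obtain ⟨a, t, rfl⟩ := IsLocalization.exists_mk'_eq P c
      refine ⟨⟨a • n, t * s⟩, ?_⟩
      simp only [Submonoid.smul_def, Submodule.subtype_apply] at hn ⊢
      rw [Submonoid.coe_mul, mul_smul, smul_comm (s : R), hn, ← algebraMap_smul S (t : R), smul_smul, mul_comm,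
        IsLocalization.mk'_spec, algebraMap_smul]
      rfl

/-- Free generators descend to a lattice. -/
theorem exists_genOn_lattice [IsNoetherianRing R] (N : Submodule R M) (hN : N.FG)
    (hloc : IsLocalizedModule P N.subtype) {f : S} {m : M} (h : GenOn f m) :
    ∃ (a : R) (s u : P) (n : N), f * algebraMap R S (s : R) = algebraMap R S a ∧ GenOn (a * u) n := by
  classical
  obtain ⟨a, s, rfl⟩ := IsLocalization.exists_mk'_eq P f
  obtain ⟨⟨n, t⟩, hnt⟩ := IsLocalizedModule.surj P N.subtype m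
  rw [Submonoid.smul_def, Submodule.subtype_apply] at hnt
  dsimp only at hnt
  let F : S := IsLocalization.mk' S a s
  have hFs : algebraMap R S a = F * algebraMap R S (s : R) := (IsLocalization.mk'_spec S a s).symm
  have hgen : ∀ g : N, ∃ (w : P) (j : ℕ) (r : R), (w : R) • a ^ j • g = r • n := by
    intro g
    obtain ⟨j, c, hc⟩ := h.1 (g : M)
    obtain ⟨d, w, hd⟩ := IsLocalization.exists_mk'_eq P (algebraMap R S (s : R) ^ j * c)
    refine ⟨w * t, j, d, Subtype.ext ?_⟩
    show ((w * t : P) : R) • a ^ j • (g : M) = d • (n : M)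
    have h2 : a ^ j • (g : M) = (algebraMap R S (s : R) ^ j * c) • m := by
      rw [← algebraMap_smul S, map_pow, hFs, mul_pow, mul_comm, mul_smul, hc, ← mul_smul]
    rw [h2, ← hd, ← hnt, Submonoid.coe_mul, mul_comm, mul_smul, ← algebraMap_smul S (w : R),
      smul_smul (algebraMap R S (w : R)), mul_comm (algebraMap R S (w : R)), IsLocalization.mk'_spec, algebraMap_smul,
      smul_comm]
  obtain ⟨G, hG⟩ := hN
  obtain ⟨T, hT⟩ := IsNoetherian.noetherian (LinearMap.ker (LinearMap.toSpanSingleton R N n))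
  have hker : ∀ r ∈ LinearMap.ker (LinearMap.toSpanSingleton R N n), ∃ (v : P) (j : ℕ), (v : R) * (a ^ j * r) = 0 := by
    intro r hr
    have hr' : r • n = 0 := hr
    have hrm : algebraMap R S r • m = 0 := by
      have h1 : (t : R) • algebraMap R S r • m = 0 := by
        rw [smul_comm, hnt, algebraMap_smul]
        exact congrArg Subtype.val hr'
      rw [← algebraMap_smul S (t : R)] at h1
      exact ((IsLocalization.map_units S t).smul_eq_zero).mp h1
    obtain ⟨j, hj⟩ := h.2 _ hrm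
    have h3 : algebraMap R S (a ^ j * r) = 0 := by
      rw [map_mul, map_pow, hFs, mul_pow, mul_right_comm, hj, zero_mul]
    obtain ⟨v, hv⟩ := (IsLocalization.map_eq_zero_iff P S _).mp h3
    exact ⟨v, j, hv⟩
  choose w j r hwr using hgen
  choose! v i hv using hker
  have hGN : ∀ g ∈ G, g ∈ N := fun g hg => hG ▸ Submodule.subset_span hg
  let u : P := (∏ g ∈ G.attach, w ⟨g.1, hGN g.1 g.2⟩) * ∏ x ∈ T, v x
  refine ⟨a, s, u, n, IsLocalization.mk'_spec S a s, fun q => ?_, ?_⟩
  · let D : Submodule R M :=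
      { carrier := {x | ∃ (k : ℕ) (c : R), (a * u) ^ k • x = c • (n : M)}
        zero_mem' := ⟨0, 0, by simp⟩
        add_mem' := by
          rintro x y ⟨k, c, hk⟩ ⟨k', c', hk'⟩
          refine ⟨k + k', (a * u) ^ k' * c + (a * u) ^ k * c', ?_⟩
          rw [smul_add, add_smul]
          congr 1
          · rw [pow_add, mul_comm, mul_smul, hk, mul_smul]
          · rw [pow_add, mul_smul, hk', mul_smul]
        smul_mem' := by
          rintro b x ⟨k, c, hk⟩
          exact ⟨k, b * c, by rw [smul_comm, hk, mul_smul]⟩ }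
    have hle : N ≤ D := by
      rw [← hG, Submodule.span_le]
      intro g hg
      let g' : N := ⟨g, hGN g hg⟩
      obtain ⟨e, he⟩ : w g' ∣ u := dvd_mul_of_dvd_left
        (Finset.dvd_prod_of_mem (fun g : G => w ⟨g.1, hGN g.1 g.2⟩) (Finset.mem_attach G ⟨g, hg⟩)) _
      refine ⟨j g' + 1, (u : R) ^ j g' * a * e * r g', ?_⟩
      have h1 : (w g' : R) • a ^ j g' • g = r g' • (n : M) := congrArg Subtype.val (hwr g')
      rw [show (a * (u : R)) ^ (j g' + 1) = ((u : R) ^ j g' * a * e) * ((w g' : R) * a ^ j g') by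
        rw [mul_pow, pow_succ (a := (u : R)), pow_succ (a := a), show (u : R) = (w g' : R) * (e : R) from
          congrArg Subtype.val he]
        ring, mul_smul _ ((w g' : R) * a ^ j g') g, mul_smul (w g' : R) (a ^ j g') g, h1, ← mul_smul]
    obtain ⟨k, c, hk⟩ := hle q.2
    exact ⟨k, c, Subtype.ext hk⟩
  · intro x hx
    let D : Ideal R :=
      { carrier := {x | ∃ k : ℕ, (a * u) ^ k * x = 0}
        zero_mem' := ⟨0, by simp⟩
        add_mem' := by
          rintro x y ⟨k, hk⟩ ⟨k', hk'⟩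
          exact ⟨k + k', by linear_combination (a * (u : R)) ^ k' * hk + (a * (u : R)) ^ k * hk'⟩
        smul_mem' := by
          rintro b x ⟨k, hk⟩
          exact ⟨k, by rw [smul_eq_mul]; linear_combination b * hk⟩ }
    have hle : LinearMap.ker (LinearMap.toSpanSingleton R N n) ≤ D := by
      rw [← hT, Submodule.span_le]
      intro x hx
      obtain ⟨e, he⟩ : v x ∣ u := dvd_mul_of_dvd_right (Finset.dvd_prod_of_mem v hx) _
      have h1 := hv x (hT ▸ Submodule.subset_span hx)
      refine ⟨i x + 1, ?_⟩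
      have h2 : (u : R) = (v x : R) * (e : R) := congrArg Subtype.val he
      calc (a * (u : R)) ^ (i x + 1) * x = ((u : R) ^ i x * a * e) * ((v x : R) * (a ^ i x * x)) := by
            rw [mul_pow, pow_succ (a := (u : R)), pow_succ (a := a), h2]; ring
        _ = 0 := by rw [h1, mul_zero]
    exact hle hx

end algebra

variable {X : Scheme.{u}}

/-- Extension of functions gives depth at least two. -/
theorem depth_of_funBij [IsLocallyNoetherian X] {U : X.Opens} (h : FunBij U) {x : X} (hx : x ∉ U) :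
    (2 : ℕ∞) ≤ LocCoh.depth (X.presheaf.stalk x) (X.presheaf.stalk x) := by
  obtain ⟨W, hW, hxW, -⟩ := exists_isAffineOpen_mem_and_subset (X := X) (x := x) (U := ⊤) trivial
  haveI : IsNoetherianRing Γ(X, W) := IsLocallyNoetherian.component_noetherian ⟨W, hW⟩
  have h2 := (bijective_map_iff_two_le_idealDepth hW inf_le_left (iSup_idealOf hW)).mp ((funBij_iff U).mp h W)
  let p := hW.primeIdealOf ⟨x, hxW⟩
  have hle : idealOf U W ≤ p.asIdeal := fun f hf => by
    by_contra hfp
    have : p ∈ hW.fromSpec ⁻¹ᵁ X.basicOpen f := by rw [hW.fromSpec_preimage_basicOpen]; exact hfp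
    change hW.fromSpec p ∈ X.basicOpen f at this
    rw [hW.fromSpec_primeIdealOf] at this
    exact hx (hf this)
  letI := X.presheaf.algebra_section_stalk ⟨x, hxW⟩
  haveI : IsLocalization.AtPrime (X.presheaf.stalk x) p.asIdeal := hW.isLocalization_stalk ⟨x, hxW⟩
  refine (h2.trans (H4Depth.idealDepth_le_depth_localization (I := idealOf U W) (M := Γ(X, W)) p.asIdeal hle)).trans_eq ?_
  exact H05EGA4.depth_eq_of_ringEquiv (IsLocalization.algEquiv p.asIdeal.primeCompl
    (Localization.AtPrime p.asIdeal) (X.presheaf.stalk x)).toRingEquiv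

/-- Restriction along a composite. -/
def restrictCompIso {Y Z : Scheme.{u}} (k : Z ⟶ Y) (f : Y ⟶ X) [IsOpenImmersion k] [IsOpenImmersion f]
    (g : Z ⟶ X) [IsOpenImmersion g] (h : k ≫ f = g) (M : X.Modules) : M.restrict g ≅ (M.restrict f).restrict k :=
  (Scheme.Modules.restrictFunctorCongr h.symm).app M ≪≫ (Scheme.Modules.restrictFunctorComp k f).app M

/-- Invertible modules on the punctured spectrum of a local ring of a parafactorial pair are trivial. -/
theorem picTrivial_localization {R S : CommRingCat.{u}} [IsNoetherianRing R] [IsLocalRing S] [IsNoetherianRing S]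
    (φ : R ⟶ S) (p : PrimeSpectrum R) (hp : PrimeSpectrum.comap φ.hom (IsLocalRing.closedPoint S) = p)
    (hloc : letI := φ.hom.toAlgebra; IsLocalization.AtPrime S p.asIdeal) {U : (Spec R).Opens}
    (hf : FunBij U) (he : ExtProp U) (hpU : p ∉ U) :
    ParaF.PicTrivial (FEt.puncturedSpec S : Scheme.{u}) := by
  intro L₀ hL₀
  letI : Algebra R S := φ.hom.toAlgebra
  haveI : IsLocalization.AtPrime S p.asIdeal := hloc
  let Pu : (Spec S).Opens := FEt.puncturedSpec S
  let f : Spec S ⟶ Spec R := Spec.map φ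
  obtain ⟨K, hK, ⟨eK⟩, -⟩ := Groth.Agent.H29Ref.exists_coh_extension Pu L₀ (H11Ample.isCoh_of_isInvertible hL₀)
  haveI : K.IsQuasicoherent := hK.1
  let M : ModuleCat S := (modulesSpecToSheaf.obj K).presheaf.obj (op ⊤)
  haveI : Module.Finite Γ(Spec S, ⊤) Γ(K, ⊤) := H10Coh.finite_sections K hK.2 (isAffineOpen_top _)
  haveI : Module.Finite S M := H10Coh.finite_ΓSpec K
  letI : Module R M := Module.compHom M φ.hom
  haveI hst : IsScalarTower R S M := IsScalarTower.of_algebraMap_smul fun r m => rfl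
  obtain ⟨N, hN, hNloc⟩ := exists_lattice (R := R) (S := S) (M := M) p.asIdeal.primeCompl
  let Nt : (Spec R).Modules := tilde (ModuleCat.of R N)
  let e₀ : ModuleCat.of R N →ₗ[R] Γ(Nt, ⊤) := (tilde.toOpen (ModuleCat.of R N) ⊤).hom
  let E := LinearEquiv.ofBijective e₀ (ConcreteCategory.bijective_of_isIso (tilde.isoTop (ModuleCat.of R N)).hom)
  -- the pullback of the lattice is `K`
  have hbc : IsBaseChange S N.subtype := (isLocalizedModule_iff_isBaseChange p.asIdeal.primeCompl S N.subtype).mp hNloc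
  let eb : (ModuleCat.extendScalars φ.hom).obj (ModuleCat.of R N) ≅ M := LinearEquiv.toModuleIso hbc.equiv
  let ePull : (Scheme.Modules.pullback f).obj Nt ≅ K :=
    (H17.OmegaAffine.pullbackTildeIso φ).app (ModuleCat.of R N) ≪≫ (tilde.functor S).mapIso eb ≪≫ @asIso _ _ _ _ K.fromTildeΓ (Scheme.Modules.isIso_fromTildeΓ_of_isQuasicoherent (R := S) K)
  -- generators at the proper generisations of `p`
  have hgen : ∀ q : PrimeSpectrum R, q.asIdeal ≤ p.asIdeal → q ≠ p →
      ∃ (b : R) (n : N), b ∉ q.asIdeal ∧ GenOn b n := by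
    intro q hqp hne
    have hdisj : Disjoint (p.asIdeal.primeCompl : Set R) (q.asIdeal : Set R) :=
      Set.disjoint_left.mpr fun a ha ha' => ha (hqp ha')
    let q' : PrimeSpectrum S := ⟨q.asIdeal.map (algebraMap R S),
      IsLocalization.isPrime_of_isPrime_disjoint p.asIdeal.primeCompl S _ q.2 hdisj⟩
    have hq' : PrimeSpectrum.comap φ.hom q' = q :=
      PrimeSpectrum.ext (IsLocalization.under_map_of_isPrime_disjoint p.asIdeal.primeCompl S q.2 hdisj)
    have hq'P : (q' : (Spec S : Scheme.{u})) ∈ Pu := fun h => hne (hq'.symm.trans ((congrArg _ (h : q' = _)).trans hp))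
    obtain ⟨V, hV, ⟨eV⟩⟩ := hL₀ ⟨q', hq'P⟩
    let V' : (Spec S).Opens := Pu.ι ''ᵁ V
    let eV' : K.restrict V'.ι ≅ Coh.structureModule _ :=
      restrictCompIso (Pu.ι.isoImage V).inv (V.ι ≫ Pu.ι) V'.ι (Scheme.Hom.isoImage_inv_ι Pu.ι V) K ≪≫
        (Scheme.Modules.restrictFunctor (Pu.ι.isoImage V).inv).mapIso ((Scheme.Modules.restrictFunctorComp V.ι Pu.ι).app K ≪≫
          (Scheme.Modules.restrictFunctor V.ι).mapIso eK ≪≫ eV) ≪≫
        Scheme.Modules.restrictUnitIso (Pu.ι.isoImage V).inv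
    obtain ⟨s, hs⟩ := exists_bijective_smul K V' eV'
    obtain ⟨_, ⟨g, rfl⟩, hqg, hgV⟩ := PrimeSpectrum.isTopologicalBasis_basic_opens.exists_subset_of_mem_open
      (show (q' : (Spec S : Scheme.{u})) ∈ V' from ⟨⟨q', hq'P⟩, hV, rfl⟩) V'.2
    have hgV' : Db (R := S) g ≤ V' := hgV
    obtain ⟨k, t, ht⟩ := exists_pow_smul_eq_map K g (K.presheaf.map (homOfLE hgV').op s)
    have hgenK : GenOn g t := genOn_of_isGen K (by
      rw [ht, smul_eq_cst_smul]
      exact H11Ample.isGen_res ((isGen_of_bijective hs).res hgV') le_rfl ((isUnit_cst le_rfl).pow k) |> fun h => by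
        rwa [H10Coh.mres_self, ← map_pow] at h)
    obtain ⟨a, σ, v, n, hfa, hg⟩ := @exists_genOn_lattice R S M _ _ _ p.asIdeal.primeCompl _ M.isAddCommGroup M.isModule
      _ hst _ N hN hNloc g t hgenK
    refine ⟨a * v, n, q.2.mul_notMem (fun ha => ?_) (fun hv => v.2 (hqp hv)), hg⟩
    have hga : g * algebraMap R S (σ : R) ∈ q'.asIdeal := hfa ▸ Ideal.mem_map_of_mem _ ha
    exact hqg ((q'.2.mem_or_mem hga).resolve_right fun h =>
      q'.2.ne_top (Ideal.eq_top_of_isUnit_mem _ h (IsLocalization.map_units S σ)))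
  -- a neighbourhood where generators exist off the closure of `p`
  let I : Ideal R := Ideal.span {b | ∃ n : N, GenOn b n}
  have hI : ∀ q : PrimeSpectrum R, I ≤ q.asIdeal → q.asIdeal ≤ p.asIdeal → q = p := fun q hIq hqp => by
    by_contra hne
    obtain ⟨b, n, hb, hg⟩ := hgen q hqp hne
    exact hb (hIq (Ideal.subset_span ⟨n, hg⟩))
  obtain ⟨h, hhp, hh⟩ : ∃ h ∉ p.asIdeal, ∀ q : PrimeSpectrum R, I ≤ q.asIdeal → h ∉ q.asIdeal → p.asIdeal ≤ q.asIdeal := by
    classical
    have hfin := Ideal.finite_minimalPrimes_of_isNoetherianRing R I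
    have : ∀ q ∈ I.minimalPrimes, ¬ q ≤ p.asIdeal → ∃ c ∈ q, c ∉ p.asIdeal := fun q _ hq => SetLike.not_le_iff_exists.mp hq
    choose! c hcq hcp using this
    let Bad := hfin.toFinset.filter fun q => ¬ q ≤ p.asIdeal
    refine ⟨∏ q ∈ Bad, c q, fun hmem => ?_, fun q hIq hhq => ?_⟩
    · obtain ⟨r, hr, hrp⟩ := Ideal.IsPrime.prod_mem_iff.mp hmem
      rw [Finset.mem_filter, hfin.mem_toFinset] at hr
      exact hcp r hr.1 hr.2 hrp
    · obtain ⟨r, hrmin, hrq⟩ := Ideal.exists_minimalPrimes_le hIq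
      have hrp : r ≤ p.asIdeal := by
        by_contra hrp
        refine hhq (hrq ?_)
        exact Ideal.mem_of_dvd _ (Finset.dvd_prod_of_mem c (Finset.mem_filter.mpr ⟨hfin.mem_toFinset.mpr hrmin, hrp⟩))
          (hcq r hrmin hrp)
      exact le_of_eq_of_le (congrArg PrimeSpectrum.asIdeal (hI ⟨r, hrmin.1.1⟩ hrmin.1.2 hrp)).symm hrq
  -- extension across the closure of `p`
  let U' : (Spec R).Opens := ⟨(PrimeSpectrum.zeroLocus (p.asIdeal : Set R))ᶜ,
    (PrimeSpectrum.isClosed_zeroLocus _).isOpen_compl⟩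
  have hUU' : U ≤ U' := fun q hq hqz => hpU
    (((PrimeSpectrum.le_iff_specializes p q).mp hqz).mem_open U.2 hq)
  obtain ⟨-, he'⟩ := pair_mono hUU' hf he
  let T : (Spec R).Opens := Db (R := R) h
  let Z : (Spec R).Opens := T ⊓ U'
  have hL : PicF.IsInvertible (Nt.restrict Z.ι) := by
    intro x
    obtain ⟨hxT, hxU⟩ := Opens.mem_inf.mp x.2
    obtain ⟨b, ⟨n, hg⟩, hbx⟩ : ∃ b, (∃ n : N, GenOn b n) ∧ b ∉ x.1.asIdeal := by
      by_contra hcon
      push Not at hcon
      exact hxU (hh x.1 (Ideal.span_le.mpr fun b ⟨n, hn⟩ => hcon b ⟨n, hn⟩) hxT)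
    have hg' := isGen_of_genOn Nt (hg.map_equiv E)
    let D : (Spec R).Opens := Db (R := R) b ⊓ Z
    obtain ⟨e⟩ := Groth.Agent.H11Tilde.nonempty_iso_structureModule Nt D _ fun V hV =>
      (hg'.res (inf_le_left : D ≤ Db (R := R) b)).bijective hV
    exact ⟨Z.ι ⁻¹ᵁ D, ⟨hbx, x.2⟩, restrict_restrict_trivial (inf_le_right : D ≤ Z) Nt e⟩
  let j : (Z : Scheme.{u}) ⟶ (T : Scheme.{u}) := (Spec R).homOfLE (inf_le_left : T ⊓ U' ≤ T)
  have hj : j.opensRange = T.ι ⁻¹ᵁ U' := by
    rw [opensRange_homOfLE, Scheme.Hom.preimage_inf, show T.ι ⁻¹ᵁ T = ⊤ by ext ⟨x, hx⟩; exact iff_of_true hx trivial,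
      top_inf_eq]
  obtain ⟨V, hpV, ⟨eV⟩⟩ := he' T.ι j hj _ hL ⟨p, hhp⟩
  let V' : (Spec R).Opens := T.ι ''ᵁ V
  let Z' : (Spec R).Opens := V' ⊓ U'
  have hV'T : V' ≤ T := T.ι_image_le V
  have hZ' : Z' ≤ Z := inf_le_inf_right U' hV'T
  let k : (Z' : Scheme.{u}) ⟶ (V : Scheme.{u}) := (Spec R).homOfLE (inf_le_left : Z' ≤ V') ≫ (T.ι.isoImage V).inv
  have hk : k ≫ V.ι = (Spec R).homOfLE hZ' ≫ j := by
    rw [← cancel_mono T.ι]
    simp [k, j]
  let eZ : Nt.restrict Z'.ι ≅ Coh.structureModule _ :=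
    restrictCompIso ((Spec R).homOfLE hZ') Z.ι Z'.ι (Scheme.homOfLE_ι _ _) Nt ≪≫
      (Scheme.Modules.restrictFunctor ((Spec R).homOfLE hZ')).mapIso (restrictPushIso j (Nt.restrict Z.ι)).symm ≪≫
      (restrictCompIso ((Spec R).homOfLE hZ') j (k ≫ V.ι) hk.symm _).symm ≪≫
      (Scheme.Modules.restrictFunctorComp k V.ι).app _ ≪≫ (Scheme.Modules.restrictFunctor k).mapIso eV ≪≫
      Scheme.Modules.restrictUnitIso k
  -- back to the punctured spectrum
  let eK' : K.restrict (f ⁻¹ᵁ Z').ι ≅ Coh.structureModule _ :=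
    (Scheme.Modules.restrictFunctor (f ⁻¹ᵁ Z').ι).mapIso ePull.symm ≪≫
      (H16Derived.KFlat.Stalk.pullbackRestrictIso f Z').app Nt ≪≫ (Scheme.Modules.pullback (f ∣_ Z')).mapIso eZ ≪≫
      H16Derived.KFlat.Stalk.structurePullbackIso _
  have hpre : Pu ≤ f ⁻¹ᵁ Z' := by
    intro z hz
    have hzp : (PrimeSpectrum.comap φ.hom z).asIdeal ≤ p.asIdeal := by
      rw [← hp]
      exact Ideal.comap_mono (IsLocalRing.le_maximalIdeal z.2.ne_top)
    refine ⟨((PrimeSpectrum.le_iff_specializes (PrimeSpectrum.comap φ.hom z) p).mp hzp).mem_open V'.2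
      ⟨⟨p, hhp⟩, hpV, rfl⟩, fun hc => hz ?_⟩
    have heq : PrimeSpectrum.comap φ.hom z = p := PrimeSpectrum.ext (le_antisymm hzp hc)
    have h1 : z.asIdeal.under R = p.asIdeal := congrArg PrimeSpectrum.asIdeal heq
    have h2 : (IsLocalRing.closedPoint S).asIdeal.under R = p.asIdeal := congrArg PrimeSpectrum.asIdeal hp
    apply PrimeSpectrum.ext
    rw [← IsLocalization.map_under p.asIdeal.primeCompl S z.asIdeal, h1, ← h2, IsLocalization.map_under p.asIdeal.primeCompl S]
  exact ⟨eK.symm ≪≫ restrictCompIso ((Spec S).homOfLE hpre) (f ⁻¹ᵁ Z').ι Pu.ι (Scheme.homOfLE_ι _ _) K ≪≫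
    (Scheme.Modules.restrictFunctor _).mapIso eK' ≪≫ Scheme.Modules.restrictUnitIso _⟩

/-- The local rings of a parafactorial pair are parafactorial. -/
theorem isParafactorialLocalRing_stalk [IsLocallyNoetherian X] {U : X.Opens} (hf : FunBij U) (he : ExtProp U)
    {y : X} (hy : y ∉ U) : ParaF.IsParafactorialLocalRing (X.presheaf.stalk y) := by
  refine isParafactorialLocalRing_iff.mpr ⟨bijective_punctured_iff.mpr (depth_of_funBij hf hy), ?_⟩
  obtain ⟨W, hW, hyW, -⟩ := exists_isAffineOpen_mem_and_subset (X := X) (x := y) (U := ⊤) trivial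
  haveI : IsNoetherianRing Γ(X, W) := IsLocallyNoetherian.component_noetherian ⟨W, hW⟩
  refine picTrivial_localization (R := Γ(X, W)) (S := X.presheaf.stalk y) (X.presheaf.germ W y hyW)
    (hW.primeIdealOf ⟨y, hyW⟩) (hW.primeIdealOf_eq_map_closedPoint ⟨y, hyW⟩).symm
    (hW.isLocalization_stalk ⟨y, hyW⟩) (FunBij.restrict hW.fromSpec hf) (ExtProp.restrict hW.fromSpec he) ?_
  intro h
  change hW.fromSpec (hW.primeIdealOf ⟨y, hyW⟩) ∈ U at h
  rw [hW.fromSpec_primeIdealOf] at h
  exact hy h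

end Groth.Agent.H23Para
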